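import Cfsg.Agent.JOneRecog.Basic
import Cfsg.Agent.JankoOne.Orders
import Cfsg.Agent.JankoOne.Centralizer
import Cfsg.Agent.JankoOne.Simple

/-!
Subgroups of odd order of the first Janko group, and a generation lemma for four-groups acting on groups of odd
order.
-/

set_option autoImplicit false
set_option maxRecDepth 100000
set_option synthInstance.maxSize 10000
set_option synthInstance.maxHeartbeats 1000000
set_option linter.all false

namespace Cfsg.Agent.WeakJ1

open JOneRecog

/-- The possible odd orders of elements. -/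
def oddList : List ℕ := [1, 3, 5, 15, 7, 11, 19]

theorem odd_list_spec : ∀ n ∈ [6, 10, 15, 7, 11, 19], ∀ d < 20, d ∣ n → ¬ 2 ∣ d → d ∈ oddList := by
  decide +kernel

theorem order_odd {g : Spor.J1} (hg : ¬ 2 ∣ orderOf g) : orderOf g ∈ oddList := by
  obtain ⟨n, hn, e⟩ := JankoOne.j1_pow g
  have hd := orderOf_dvd_of_pow_eq_one e
  have hn20 : n < 20 := (by decide : ∀ n ∈ [6, 10, 15, 7, 11, 19], n < 20) n hn
  have hn0 : 0 < n := (by decide : ∀ n ∈ [6, 10, 15, 7, 11, 19], 0 < n) n hn
  exact odd_list_spec n hn _ ((Nat.le_of_dvd hn0 hd).trans_lt hn20) hd hg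

theorem model_orders : ((1, rA) : M0) ^ 3 = 1 ∧ ((1, rA) : M0) ≠ 1 ∧ ((1, hA) : M0) ^ 5 = 1 ∧
    ((1, hA) : M0) ≠ 1 := by
  decide +kernel

theorem cent_small {p : ℕ} (hp : p = 3 ∨ p = 5) {x : Spor.J1} (hx : orderOf x = p) :
    ∃ w : Spor.J1, orderOf w = 2 ∧ w * x = x * w := by
  have hpp : p.Prime := by rcases hp with rfl | rfl <;> norm_num
  haveI := Fact.mk hpp
  haveI : Finite Spor.J1 := Nat.finite_of_card_ne_zero (by rw [JankoOne.card_J1]; norm_num)
  obtain ⟨e⟩ := JankoOne.nonempty_cent_equiv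
  obtain ⟨h3, h3', h5, h5'⟩ := model_orders
  obtain ⟨m, hm, hm1⟩ : ∃ m : M0, m ^ p = 1 ∧ m ≠ 1 := by
    rcases hp with rfl | rfl
    exacts [⟨_, h3, h3'⟩, ⟨_, h5, h5'⟩]
  let y : Spor.J1 := ((e.symm m : Subgroup.centralizer ({JankoOne.tG} : Set Spor.J1)) : Spor.J1)
  have hy : orderOf y = p := by
    rw [Subgroup.orderOf_coe, MulEquiv.orderOf_eq]
    exact orderOf_eq_prime hm hm1
  have hsyl : ∀ z : Spor.J1, orderOf z = p → ∃ P : Sylow p Spor.J1, (P : Subgroup Spor.J1) = Subgroup.zpowers z := by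
    intro z hz
    obtain ⟨P, hP⟩ := (IsPGroup.of_card (n := 1) (by rw [Nat.card_zpowers, hz, pow_one]) :
      IsPGroup p (Subgroup.zpowers z)).exists_le_sylow
    obtain ⟨i, hi⟩ := IsPGroup.iff_card.1 P.isPGroup'
    have hd : p ^ i ∣ 175560 := by
      rw [← hi, ← JankoOne.card_J1]
      exact Subgroup.card_subgroup_dvd_card _
    have hi1 : i ≤ 1 := by
      by_contra hge
      have h2 : p ^ 2 ∣ 175560 := (pow_dvd_pow p (by omega : 2 ≤ i)).trans hd
      rcases hp with rfl | rfl <;> norm_num at h2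
    refine ⟨P, (Subgroup.eq_of_le_of_card_ge hP ?_).symm⟩
    rw [hi, Nat.card_zpowers, hz]
    calc p ^ i ≤ p ^ 1 := Nat.pow_le_pow_right hpp.pos hi1
      _ = p := pow_one p
  obtain ⟨P, hP⟩ := hsyl x hx
  obtain ⟨Q, hQ⟩ := hsyl y hy
  obtain ⟨g, hg⟩ := MulAction.exists_smul_eq Spor.J1 P Q
  have hmem : g * x * g⁻¹ ∈ Subgroup.zpowers y := by
    rw [← hQ, ← hg, Sylow.coe_subgroup_smul]
    exact Subgroup.smul_mem_pointwise_smul _ _ _ (hP.symm ▸ Subgroup.mem_zpowers x)
  have hle : Subgroup.zpowers y ≤ Subgroup.centralizer ({JankoOne.tG} : Set Spor.J1) :=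
    Subgroup.zpowers_le.2 (e.symm m).2
  have hc := Subgroup.mem_centralizer_singleton_iff.1 (hle hmem)
  refine ⟨g⁻¹ * JankoOne.tG * g, ?_, ?_⟩
  · exact ((orderOf_injective (MulAut.conj g).toMonoidHom (MulAut.conj g).injective _).symm.trans
      (congrArg orderOf (show g * (g⁻¹ * JankoOne.tG * g) * g⁻¹ = JankoOne.tG by group))).trans JankoOne.orderOf_tG
  · calc g⁻¹ * JankoOne.tG * g * x = g⁻¹ * (JankoOne.tG * (g * x * g⁻¹)) * g := by group
      _ = g⁻¹ * (g * x * g⁻¹ * JankoOne.tG) * g := by rw [hc]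
      _ = x * (g⁻¹ * JankoOne.tG * g) := by group

/-- A normal subgroup of prime order and an element of another prime order. -/
theorem exists_order_mul {R : Type*} [Group R] [Finite R] (N : Subgroup R) (hN : N.Normal) {q r : ℕ}
    (hq : q.Prime) (hr : r.Prime) (hne : r ≠ q) (hcard : Nat.card N = q) (hrd : r ∣ Nat.card R)
    (hr1 : ¬ r ∣ q - 1) : ∃ x : R, orderOf x = q * r := by
  haveI := Fact.mk hq
  haveI := Fact.mk hr
  obtain ⟨x, hx⟩ := exists_prime_orderOf_dvd_card' r hrd
  obtain ⟨a, ha⟩ := exists_prime_orderOf_dvd_card' q (dvd_of_eq hcard.symm)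
  haveI : IsCyclic N := isCyclic_of_prime_card hcard
  let φ : MulAut N := MulAut.conjNormal x
  have hφ : φ = 1 := by
    rw [← orderOf_eq_one_iff]
    have h1 : orderOf φ ∣ r := hx ▸ orderOf_map_dvd (MulAut.conjNormal (H := N)) x
    have h2 : orderOf φ ∣ q - 1 := by
      refine (orderOf_dvd_natCard φ).trans ?_
      rw [IsCyclic.card_mulAut, hcard, Nat.totient_prime hq]
    rcases (Nat.dvd_prime hr).1 h1 with e | e
    · exact e
    · exact absurd (e ▸ h2) hr1
  have hc : Commute (a : R) x := by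
    have h1 : φ a = a := by rw [hφ]; rfl
    have h2 := congrArg Subtype.val h1
    rw [MulAut.conjNormal_apply] at h2
    exact (mul_inv_eq_iff_eq_mul.1 h2).symm
  refine ⟨(a : R) * x, ?_⟩
  rw [hc.orderOf_mul_eq_mul_orderOf_of_coprime, Subgroup.orderOf_coe, ha, hx]
  rw [Subgroup.orderOf_coe, ha, hx]
  exact (Nat.coprime_primes hq hr).2 (Ne.symm hne)

/-- Burnside's normal complement for the least prime. -/
theorem exists_complement {R : Type*} [Group R] [Finite R] {p : ℕ} [hp : Fact p.Prime]
    (hmin : (Nat.card R).minFac = p) (hsq : ¬ p * p ∣ Nat.card R) :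
    ∃ K : Subgroup R, K.Normal ∧ Nat.card K * p = Nat.card R := by
  obtain ⟨P⟩ := (inferInstance : Nonempty (Sylow p R))
  obtain ⟨i, hi⟩ := IsPGroup.iff_card.1 P.isPGroup'
  have hpd : p ∣ Nat.card R := hmin ▸ Nat.minFac_dvd _
  have hi1 : i = 1 := by
    have h1 : i ≤ 1 := by
      by_contra hge
      exact hsq (((pow_two p).symm ▸ (pow_dvd_pow p (by omega : 2 ≤ i)) : p * p ∣ p ^ i).trans
        (hi ▸ (P : Subgroup R).card_subgroup_dvd_card))
    rcases Nat.le_one_iff_eq_zero_or_eq_one.1 h1 with rfl | rfl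
    · exfalso
      rw [pow_zero] at hi
      have := (P : Subgroup R).card_mul_index
      rw [hi, one_mul] at this
      exact P.not_dvd_index (this ▸ hpd)
    · rfl
  rw [hi1, pow_one] at hi
  haveI : IsCyclic P := isCyclic_of_prime_card hi
  have hle := IsCyclic.normalizer_le_centralizer hmin (P := P) inferInstance
  refine ⟨(MonoidHom.transferSylow P hle).ker, inferInstance, ?_⟩
  have := (MonoidHom.ker_transferSylow_isComplement' P hle).card_mul
  rwa [hi] at this

theorem prime_factor_cases {p : ℕ} (hp : p.Prime) (hd : p ∣ 21945) : p = 3 ∨ p = 5 ∨ p = 7 ∨ p = 11 ∨ p = 19 := by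
  have h : 21945 = 3 * 5 * 7 * 11 * 19 := by norm_num
  rw [h] at hd
  rcases hp.dvd_mul.1 hd with hd | hd
  · rcases hp.dvd_mul.1 hd with hd | hd
    · rcases hp.dvd_mul.1 hd with hd | hd
      · rcases hp.dvd_mul.1 hd with hd | hd
        · exact Or.inl ((Nat.prime_dvd_prime_iff_eq hp (by norm_num)).1 hd)
        · exact Or.inr (Or.inl ((Nat.prime_dvd_prime_iff_eq hp (by norm_num)).1 hd))
      · exact Or.inr (Or.inr (Or.inl ((Nat.prime_dvd_prime_iff_eq hp (by norm_num)).1 hd)))
    · exact Or.inr (Or.inr (Or.inr (Or.inl ((Nat.prime_dvd_prime_iff_eq hp (by norm_num)).1 hd))))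
  · exact Or.inr (Or.inr (Or.inr (Or.inr ((Nat.prime_dvd_prime_iff_eq hp (by norm_num)).1 hd))))

theorem no_two_big : ∀ (n : ℕ), ∀ (R : Type) [Group R] [Finite R], Nat.card R = n → n ∣ 21945 →
    (∀ x : R, orderOf x ∈ oddList) → ¬ 77 ∣ n ∧ ¬ 133 ∣ n ∧ ¬ 209 ∣ n := by
  intro n
  induction n using Nat.strong_induction_on with
  | _ n ih =>
  intro R _ _ hcard hdvd hord
  by_contra hcon
  have hn1 : n ≠ 1 := by
    rintro rfl
    norm_num at hcon
  have hp := Nat.minFac_prime hn1
  have hpd := Nat.minFac_dvd n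
  generalize hpdef : n.minFac = p at hp hpd
  haveI := Fact.mk hp
  have hcases := prime_factor_cases hp (hpd.trans hdvd)
  have hsq : ¬ p * p ∣ n := fun h => by
    have := h.trans hdvd
    rcases hcases with rfl | rfl | rfl | rfl | rfl <;> norm_num at this
  obtain ⟨K, hK, hKc⟩ := exists_complement (R := R) (p := p) (by rw [hcard, hpdef]) (by rw [hcard]; exact hsq)
  rw [hcard] at hKc
  have hKd : Nat.card K ∣ n := Dvd.intro p hKc
  have hKlt : Nat.card K < n := by
    have := hp.two_le
    have hpos : 0 < Nat.card K := Nat.card_pos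
    nlinarith
  obtain ⟨k1, k2, k3⟩ := ih _ hKlt K rfl (hKd.trans hdvd)
    (fun x => by rw [← Subgroup.orderOf_coe]; exact hord x)
  have hdiv : ∀ m : ℕ, m ∣ n → Nat.Coprime m p → m ∣ Nat.card K := fun m hm hc =>
    hc.dvd_of_dvd_mul_right (hKc.symm ▸ hm)
  have hmin : ∀ r, r.Prime → r ∣ n → p ≤ r := fun r hr hrn => hpdef ▸ Nat.minFac_le_of_dvd hr.two_le hrn
  obtain ⟨q, hq, hqn, hpq, hlist, hres⟩ : ∃ q, q.Prime ∧ q ∣ n ∧ ¬ p ∣ q - 1 ∧ q * p ∉ oddList ∧
      Nat.card K ∣ q ∧ q ≠ p := by
    simp only [not_and_or, not_not] at hcon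
    rcases hcases with rfl | rfl | rfl | rfl | rfl
    · rcases hcon with h | h | h
      exacts [absurd (hdiv _ h (by norm_num)) k1, absurd (hdiv _ h (by norm_num)) k2,
        absurd (hdiv _ h (by norm_num)) k3]
    · rcases hcon with h | h | h
      exacts [absurd (hdiv _ h (by norm_num)) k1, absurd (hdiv _ h (by norm_num)) k2,
        absurd (hdiv _ h (by norm_num)) k3]
    · have h3 : ¬ 3 ∣ n := fun e => by have := hmin 3 (by norm_num) e; omega
      have h5 : ¬ 5 ∣ n := fun e => by have := hmin 5 (by norm_num) e; omega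
      have h1463 : n ∣ 1463 := (Nat.Coprime.dvd_of_dvd_mul_left
        (Nat.Coprime.mul_right ((Nat.prime_three.coprime_iff_not_dvd.2 h3).symm)
          (((show Nat.Prime 5 by norm_num).coprime_iff_not_dvd.2 h5).symm)) (show n ∣ 3 * 5 * 1463 from hdvd))
      have hK2 : Nat.card K ∣ 209 := by
        have : Nat.card K * 7 ∣ 209 * 7 := hKc.symm ▸ h1463
        exact Nat.dvd_of_mul_dvd_mul_right (by norm_num) this
      rcases hcon with h | h | h
      · refine ⟨11, by norm_num, dvd_trans (by norm_num) h, by norm_num, by decide, ?_, by norm_num⟩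
        rcases (Nat.dvd_mul.1 (show Nat.card K ∣ 11 * 19 from hK2)) with ⟨a, b, ha, hb, e⟩
        rcases (Nat.dvd_prime (show Nat.Prime 19 by norm_num)).1 hb with rfl | rfl
        · rw [← e, mul_one]; exact ha
        · exfalso
          refine k3 ?_
          rcases (Nat.dvd_prime (show Nat.Prime 11 by norm_num)).1 ha with rfl | rfl
          · exfalso
            have := h
            rw [← hKc, ← e] at this
            norm_num at this
          · exact e ▸ dvd_refl _
      · refine ⟨19, by norm_num, dvd_trans (by norm_num) h, by norm_num, by decide, ?_, by norm_num⟩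
        rcases (Nat.dvd_mul.1 (show Nat.card K ∣ 11 * 19 from hK2)) with ⟨a, b, ha, hb, e⟩
        rcases (Nat.dvd_prime (show Nat.Prime 11 by norm_num)).1 ha with rfl | rfl
        · rw [← e, one_mul]; exact hb
        · exfalso
          refine k3 ?_
          rcases (Nat.dvd_prime (show Nat.Prime 19 by norm_num)).1 hb with rfl | rfl
          · exfalso
            have := h
            rw [← hKc, ← e] at this
            norm_num at this
          · exact e ▸ dvd_refl _
      · exact absurd (hdiv _ h (by norm_num)) k3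
    · have h3 : ¬ 3 ∣ n := fun e => by have := hmin 3 (by norm_num) e; omega
      have h5 : ¬ 5 ∣ n := fun e => by have := hmin 5 (by norm_num) e; omega
      have h7 : ¬ 7 ∣ n := fun e => by have := hmin 7 (by norm_num) e; omega
      have h209 : n ∣ 209 := (Nat.Coprime.dvd_of_dvd_mul_left
        (Nat.Coprime.mul_right (Nat.Coprime.mul_right ((Nat.prime_three.coprime_iff_not_dvd.2 h3).symm)
          (((show Nat.Prime 5 by norm_num).coprime_iff_not_dvd.2 h5).symm))
          (((show Nat.Prime 7 by norm_num).coprime_iff_not_dvd.2 h7).symm))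
        (show n ∣ 3 * 5 * 7 * 209 from hdvd))
      rcases hcon with h | h | h
      · exact absurd (dvd_trans (by norm_num) h) h7
      · exact absurd (dvd_trans (by norm_num) h) h7
      · have he : n = 209 := Nat.dvd_antisymm h209 h
        refine ⟨19, by norm_num, dvd_trans (by norm_num) h, by norm_num, by decide, ?_, by norm_num⟩
        exact dvd_of_eq (by omega)
    · exfalso
      rcases hcon with h | h | h
      · have := hmin 7 (by norm_num) (dvd_trans (by norm_num) h); omega
      · have := hmin 7 (by norm_num) (dvd_trans (by norm_num) h); omega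
      · have := hmin 11 (by norm_num) (dvd_trans (by norm_num) h); omega
  obtain ⟨hKq, hqp⟩ := hres
  have hKq' : Nat.card K = q := by
    rcases (Nat.dvd_prime hq).1 hKq with e | e
    · exfalso
      rw [e, one_mul] at hKc
      exact hqp ((Nat.prime_dvd_prime_iff_eq hq hp).1 (hKc ▸ hqn))
    · exact e
  obtain ⟨x, hx⟩ := exists_order_mul K hK hq hp (Ne.symm hqp) hKq' (hcard ▸ hpd) hpq
  exact hlist (hx ▸ hord x)

/-- The order of an odd subgroup times that of a normal subgroup without elements of order three or five. -/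
theorem card_bound (R : Type) [Group R] [Finite R] (hdvd : Nat.card R ∣ 21945)
    (hord : ∀ x : R, orderOf x ∈ oddList) (N : Subgroup R) (hN : N.Normal)
    (hN3 : ∀ x ∈ N, orderOf x ≠ 3 ∧ orderOf x ≠ 5) : Nat.card R * Nat.card N < 1463 := by
  obtain ⟨k1, k2, k3⟩ := no_two_big _ R rfl hdvd hord
  have hN3' : ¬ 3 ∣ Nat.card N := fun h => by
    haveI := Fact.mk Nat.prime_three
    obtain ⟨x, hx⟩ := exists_prime_orderOf_dvd_card' 3 h
    exact (hN3 x x.2).1 ((Subgroup.orderOf_coe x).trans hx)
  have hN5' : ¬ 5 ∣ Nat.card N := fun h => by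
    haveI := Fact.mk (show Nat.Prime 5 by norm_num)
    obtain ⟨x, hx⟩ := exists_prime_orderOf_dvd_card' 5 h
    exact (hN3 x x.2).2 ((Subgroup.orderOf_coe x).trans hx)
  have hNd : Nat.card N ∣ Nat.card R := N.card_subgroup_dvd_card
  have hN7 : Nat.card N ∣ 1463 := Nat.Coprime.dvd_of_dvd_mul_left
    (Nat.Coprime.mul_right ((Nat.prime_three.coprime_iff_not_dvd.2 hN3').symm)
      (((show Nat.Prime 5 by norm_num).coprime_iff_not_dvd.2 hN5').symm))
    (show Nat.card N ∣ 3 * 5 * 1463 from hNd.trans hdvd)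
  have hR : Nat.card R ∣ 105 ∨ Nat.card R ∣ 165 ∨ Nat.card R ∣ 285 := by
    obtain ⟨a, b, ha, hb, e⟩ := Nat.dvd_mul.1 (show Nat.card R ∣ 1155 * 19 from hdvd)
    rcases (Nat.dvd_prime (show Nat.Prime 19 by norm_num)).1 hb with rfl | rfl
    · obtain ⟨c, d, hc, hd, e'⟩ := Nat.dvd_mul.1 (show a ∣ 105 * 11 from ha)
      rcases (Nat.dvd_prime (show Nat.Prime 11 by norm_num)).1 hd with rfl | rfl
      · left; rw [← e, ← e', mul_one, mul_one]; exact hc
      · right; left
        have h7 : ¬ 7 ∣ c := fun h => k1 (by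
          rw [← e, ← e', mul_one, show 77 = 7 * 11 by norm_num]; exact Nat.mul_dvd_mul_right h 11)
        have h15 : c ∣ 15 := Nat.Coprime.dvd_of_dvd_mul_right
          (((show Nat.Prime 7 by norm_num).coprime_iff_not_dvd.2 h7).symm) (show c ∣ 15 * 7 from hc)
        rw [← e, ← e', mul_one]
        exact Nat.mul_dvd_mul_right h15 11
    · right; right
      have h7 : ¬ 7 ∣ a := fun h => k2 (by
        rw [← e, show 133 = 7 * 19 by norm_num]; exact Nat.mul_dvd_mul_right h 19)
      have h11 : ¬ 11 ∣ a := fun h => k3 (by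
        rw [← e, show 209 = 11 * 19 by norm_num]; exact Nat.mul_dvd_mul_right h 19)
      have h15 : a ∣ 15 := Nat.Coprime.dvd_of_dvd_mul_right
        (Nat.Coprime.mul_right (((show Nat.Prime 7 by norm_num).coprime_iff_not_dvd.2 h7).symm)
          (((show Nat.Prime 11 by norm_num).coprime_iff_not_dvd.2 h11).symm)) (show a ∣ 15 * (7 * 11) from ha)
      rw [← e]
      exact Nat.mul_dvd_mul_right h15 19
  have hsmall : ∀ q r : ℕ, q.Prime → r.Prime → r ≠ q → ¬ r ∣ q - 1 → q * r ∉ oddList → Nat.card N = q →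
      ¬ r ∣ Nat.card R := by
    intro q r hq hr hne h1 h2 hc hd
    obtain ⟨x, hx⟩ := exists_order_mul N hN hq hr hne hc hd h1
    exact h2 (hx ▸ hord x)
  have hpos : 0 < Nat.card R := Nat.card_pos
  have hle1 : Nat.card R ≤ 285 := by
    rcases hR with h | h | h
    · exact (Nat.le_of_dvd (by norm_num) h).trans (by norm_num)
    · exact (Nat.le_of_dvd (by norm_num) h).trans (by norm_num)
    · exact Nat.le_of_dvd (by norm_num) h
  obtain ⟨a, b, ha, hb, e⟩ := Nat.dvd_mul.1 (show Nat.card N ∣ 77 * 19 from hN7)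
  rcases (Nat.dvd_prime (show Nat.Prime 19 by norm_num)).1 hb with rfl | rfl
  · obtain ⟨c, d, hc, hd, e'⟩ := Nat.dvd_mul.1 (show a ∣ 7 * 11 from ha)
    rcases (Nat.dvd_prime (show Nat.Prime 7 by norm_num)).1 hc with rfl | rfl <;>
      rcases (Nat.dvd_prime (show Nat.Prime 11 by norm_num)).1 hd with rfl | rfl
    · rw [← e, ← e']; omega
    · have hN11 : Nat.card N = 11 := by rw [← e, ← e']
      have h3 := hsmall 11 3 (by norm_num) (by norm_num) (by norm_num) (by norm_num) (by decide) hN11
      have h55 : Nat.card R ∣ 55 := by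
        have h165 : Nat.card R ∣ 3 * 55 := by
          rcases hR with h | h | h
          · exact absurd (hN11 ▸ hNd) fun e => by have := e.trans h; norm_num at this
          · exact h
          · exact absurd (hN11 ▸ hNd) fun e => by have := e.trans h; norm_num at this
        exact Nat.Coprime.dvd_of_dvd_mul_left ((Nat.prime_three.coprime_iff_not_dvd.2 h3).symm) h165
      have := Nat.le_of_dvd (by norm_num) h55
      rw [hN11]
      omega
    · have hN7' : Nat.card N = 7 := by rw [← e, ← e']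
      have h105 : Nat.card R ∣ 105 := by
        rcases hR with h | h | h
        · exact h
        · exact absurd (hN7' ▸ hNd) fun e => by have := e.trans h; norm_num at this
        · exact absurd (hN7' ▸ hNd) fun e => by have := e.trans h; norm_num at this
      have := Nat.le_of_dvd (by norm_num) h105
      rw [hN7']
      omega
    · exfalso
      apply k1
      refine dvd_trans ?_ hNd
      rw [← e, ← e']
  · obtain rfl : a = 1 := by
      obtain ⟨c, d, hc, hd, e'⟩ := Nat.dvd_mul.1 (show a ∣ 7 * 11 from ha)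
      rcases (Nat.dvd_prime (show Nat.Prime 7 by norm_num)).1 hc with rfl | rfl <;>
        rcases (Nat.dvd_prime (show Nat.Prime 11 by norm_num)).1 hd with rfl | rfl
      · omega
      · exact absurd ((show 209 ∣ Nat.card N by rw [← e, ← e']).trans hNd) k3
      · exact absurd ((show 133 ∣ Nat.card N by rw [← e, ← e']).trans hNd) k2
      · exact absurd ((show 77 ∣ Nat.card N from ⟨19, by rw [← e, ← e']⟩).trans hNd) k1
    have hN19 : Nat.card N = 19 := by rw [← e]
    have h5 := hsmall 19 5 (by norm_num) (by norm_num) (by norm_num) (by norm_num) (by decide) hN19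
    have h57 : Nat.card R ∣ 57 := by
      have h285 : Nat.card R ∣ 5 * 57 := by
        rcases hR with h | h | h
        · exact absurd (hN19 ▸ hNd) fun e => by have := e.trans h; norm_num at this
        · exact absurd (hN19 ▸ hNd) fun e => by have := e.trans h; norm_num at this
        · exact h
      exact Nat.Coprime.dvd_of_dvd_mul_left (((show Nat.Prime 5 by norm_num).coprime_iff_not_dvd.2 h5).symm) h285
    have := Nat.le_of_dvd (by norm_num) h57
    rw [hN19]
    omega

/-- Two commuting involutive automorphisms of a group of odd order: the group is generated by the three groups of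
fixed points. -/
theorem fixed_gen {O : Type*} [Group O] [Finite O] (hodd : ¬ 2 ∣ Nat.card O) (α β : O →* O)
    (hα : ∀ x, α (α x) = x) (hβ : ∀ x, β (β x) = x) (hc : ∀ x, α (β x) = β (α x)) {F : Subgroup O}
    (h1 : ∀ x, α x = x → x ∈ F) (h2 : ∀ x, β x = x → x ∈ F) (h3 : ∀ x, α (β x) = x → x ∈ F) (x : O) :
    x ∈ F := by
  obtain ⟨m, hm⟩ : ∃ m, Nat.card O = 2 * m + 1 := ⟨Nat.card O / 2, by omega⟩
  have hz : ∀ y : O, y ^ (m + 1) * y ^ (m + 1) = y := fun y => by
    rw [← pow_add, show m + 1 + (m + 1) = Nat.card O + 1 by omega, pow_succ, pow_card_eq_one', one_mul]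
  have hd : ∀ d, α d = d⁻¹ → d ∈ F := by
    intro d hd
    set f := (d⁻¹ * β d) ^ (m + 1) with hf
    have hβf : β f = f⁻¹ := by
      rw [hf, map_pow, map_mul, map_inv, hβ, ← inv_pow, mul_inv_rev, inv_inv]
    have hff : f * f = d⁻¹ * β d := hz _
    have hc1 : β (d * f) = d * f := by
      rw [map_mul, hβf, mul_inv_eq_iff_eq_mul, mul_assoc, hff, mul_inv_cancel_left]
    have hαf : α f = (d * (β d)⁻¹) ^ (m + 1) := by
      rw [hf, map_pow, map_mul, map_inv, hd, inv_inv, hc, hd, map_inv]
    have hc2 : α (d * f) = (d * f)⁻¹ := by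
      have h' : ((β d)⁻¹ * d) ^ (m + 1) = d⁻¹ * (d * (β d)⁻¹) ^ (m + 1) * d := by
        have := conj_pow (i := m + 1) (a := d⁻¹) (b := d * (β d)⁻¹)
        rw [inv_inv] at this
        rw [← this]
        congr 1
        group
      rw [map_mul, hd, hαf, mul_inv_rev, hf, ← inv_pow, mul_inv_rev, inv_inv, h']
      group
    set c := d * f with hcdef
    set r := c ^ (m + 1) with hr
    have hrr : r * r = c := hz c
    have hβr : β r = r := by rw [hr, map_pow, hc1]
    have hαr : α r = r⁻¹ := by rw [hr, map_pow, hc2, inv_pow]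
    have hαβf : α (β f) = c * f * c⁻¹ := by
      have h1' : α f = d * c⁻¹ := by
        have : α (d⁻¹ * c) = d * c⁻¹ := by rw [map_mul, map_inv, hd, inv_inv, hc2]
        rwa [show d⁻¹ * c = f by rw [hcdef]; group] at this
      rw [hβf, map_inv, h1', hcdef]
      group
    have hfix : α (β (r * f * r⁻¹)) = r * f * r⁻¹ := by
      rw [show α (β (r * f * r⁻¹)) = r⁻¹ * α (β f) * r by simp [map_mul, map_inv, hβr, hαr], hαβf, ← hrr]
      group
    have hfF : f ∈ F := by
      have := mul_mem (mul_mem (inv_mem (h2 r hβr)) (h3 _ hfix)) (h2 r hβr)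
      rwa [show r⁻¹ * (r * f * r⁻¹) * r = f by group] at this
    have := mul_mem (h2 c hc1) (inv_mem hfF)
    rwa [show c * f⁻¹ = d by rw [hcdef]; group] at this
  set y := x⁻¹ * α x with hy
  set z := y ^ (m + 1) with hzdef
  have hαy : α y = y⁻¹ := by rw [hy, map_mul, map_inv, hα, mul_inv_rev, inv_inv]
  have hαz : α z = z⁻¹ := by rw [hzdef, map_pow, hαy, inv_pow]
  have h4 : α (x * z) = x * z := by
    rw [map_mul, hαz, mul_inv_eq_iff_eq_mul, mul_assoc, hz, hy, mul_inv_cancel_left]
  have := mul_mem (h1 _ h4) (inv_mem (hd z hαz))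
  rwa [mul_inv_cancel_right] at this

end Cfsg.Agent.WeakJ1
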