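import Cfsg.Agent.WeakJ1.Quotient
import Cfsg.Agent.WeakJ1.Count
import Cfsg.Agent.Invol.ZStar
import Cfsg.Agent.JankoOne.Out

/-!
An involution in the centre of a Sylow 2-subgroup whose conjugates commuting with it generate `2 × A₅`: its normal
closure is the first Janko group. The component of the involution is shown to be the whole class.
-/

set_option autoImplicit false
set_option maxRecDepth 100000
set_option synthInstance.maxSize 10000
set_option synthInstance.maxHeartbeats 1000000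
set_option linter.all false

namespace Cfsg.Agent.WeakJ1

open JOneRecog

universe u

variable {G : Type u} [Group G]

/-- The conclusion for all proper subgroups. -/
def Below (G : Type u) [Group G] : Prop :=
  ∀ X : Subgroup G, X ≠ ⊤ → ∀ s : X, Hyp s → Spor.IsoJ1 (Subgroup.normalClosure ({s} : Set X))

theorem j1_center [Finite Spor.J1] {z : Spor.J1} (hz : z ∈ Subgroup.center Spor.J1) : z = 1 := by
  haveI := JankoOne.isSimple_J1
  rcases (inferInstance : (Subgroup.center Spor.J1).Normal).eq_bot_or_eq_top with e | e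
  · exact Subgroup.mem_bot.1 (e ▸ hz)
  · exfalso
    obtain ⟨f⟩ := JankoOne.nonempty_cent_equiv
    have h1 : Subgroup.centralizer ({JankoOne.tG} : Set Spor.J1) = ⊤ := by
      rw [eq_top_iff]
      intro x _
      refine mem_cent.2 ?_
      exact (Subgroup.mem_center_iff.1 (e ▸ Subgroup.mem_top JankoOne.tG) x)
    have h2 := Nat.card_congr f.toEquiv
    rw [card_M0, h1, Subgroup.card_top, JankoOne.card_J1] at h2
    norm_num at h2

theorem ncard_conj (t : G) (X : Subgroup G) :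
    {u | ∃ x ∈ X, x * t * x⁻¹ = u}.ncard = (Subgroup.centralizer ({t} : Set G)).relIndex X := by
  letI : MulAction X G := MulAction.compHom G ((MulAut.conj : G →* MulAut G).comp X.subtype)
  have horb : MulAction.orbit X t = {u | ∃ x ∈ X, x * t * x⁻¹ = u} := by
    ext y
    constructor
    · rintro ⟨x, rfl⟩
      exact ⟨x, x.2, rfl⟩
    · rintro ⟨x, hx, rfl⟩
      exact ⟨⟨x, hx⟩, rfl⟩
  have hstab : MulAction.stabilizer X t = (Subgroup.centralizer ({t} : Set G)).subgroupOf X := by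
    ext x
    rw [MulAction.mem_stabilizer_iff, Subgroup.mem_subgroupOf, mem_cent]
    exact (mul_inv_eq_iff_eq_mul : (x : G) * t * (x : G)⁻¹ = t ↔ (x : G) * t = t * x)
  rw [← horb, ← MulAction.index_stabilizer, hstab]
  rfl

theorem map_normalClosure (X : Subgroup G) (s : X) :
    (Subgroup.normalClosure ({s} : Set X)).map X.subtype =
      Subgroup.closure {u | ∃ x ∈ X, x * (s : G) * x⁻¹ = u} := by
  rw [Subgroup.normalClosure, MonoidHom.map_closure]
  congr 1
  ext u
  constructor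
  · rintro ⟨y, hy, rfl⟩
    obtain ⟨a, ha, hay⟩ := Group.mem_conjugatesOfSet_iff.1 hy
    rw [Set.mem_singleton_iff] at ha
    subst ha
    obtain ⟨x, rfl⟩ := isConj_iff.1 hay
    exact ⟨x, x.2, rfl⟩
  · rintro ⟨x, hx, rfl⟩
    exact ⟨⟨x, hx⟩ * s * ⟨x, hx⟩⁻¹,
      Group.mem_conjugatesOfSet_iff.2 ⟨s, rfl, isConj_iff.2 ⟨⟨x, hx⟩, rfl⟩⟩, rfl⟩

variable [Finite G]

theorem hyp_sub {t : G} (h : Hyp t) (X : Subgroup G) (htX : t ∈ X)
    (hconj : ∀ u ∈ Wset t, ∃ x ∈ X, x * t * x⁻¹ = u)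
    (hsyl : ∃ P : Sylow 2 X, ∀ x ∈ (P : Subgroup X), (x : G) * t = t * x) :
    Hyp (⟨t, htX⟩ : X) := by
  obtain ⟨P, hP⟩ := hsyl
  obtain ⟨e⟩ := h.iso
  refine ⟨by rw [← Subgroup.orderOf_coe]; exact h.ht, ⟨P, fun x hx => mem_cent.2 (Subtype.ext (hP x hx))⟩, ⟨?_⟩⟩
  have hmap : (Wsub (⟨t, htX⟩ : X)).map X.subtype = Wsub t := by
    rw [Wsub, MonoidHom.map_closure, Wsub]
    congr 1
    ext u
    constructor
    · rintro ⟨y, ⟨g, rfl, hc⟩, rfl⟩
      exact ⟨g, rfl, congrArg Subtype.val hc⟩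
    · intro hu
      obtain ⟨x, hx, hxu⟩ := hconj u hu
      refine ⟨⟨x, hx⟩ * ⟨t, htX⟩ * ⟨x, hx⟩⁻¹, ⟨⟨x, hx⟩, rfl, Subtype.ext ?_⟩, hxu⟩
      show x * t * x⁻¹ * t = t * (x * t * x⁻¹)
      rw [hxu]
      exact hu.choose_spec.2
  exact ((Subgroup.equivMapOfInjective _ X.subtype X.subtype_injective).trans
    (MulEquiv.subgroupCongr hmap)).trans e

/-- The data of a component which is not the whole class. -/
structure Comp (t : G) : Prop where
  h : Hyp t
  below : Below G
  proper : Mgrp t ≠ ⊤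

namespace Comp

variable {t : G} (c : Comp t)

include c in
theorem t_mem : t ∈ Kgrp t := conn_mem_K (conn_refl t)

include c in
theorem K_iso : Nonempty (Kgrp t ≃* Spor.J1) := by
  haveI := Fact.mk Nat.prime_two
  let M := Mgrp t
  have htM : t ∈ M := conn_mem_M (conn_refl t)
  have hSM : (c.h.S : Subgroup G) ≤ M := c.h.S_le_C.trans (cent_le_M t)
  have hH := hyp_sub c.h M htM
    (fun u hu => by
      obtain ⟨g, hg, e⟩ := conn_exists (conn_of_wset hu)
      exact ⟨g, hg, e⟩)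
    ⟨c.h.S.subtype hSM, fun x hx => mem_cent.1 (c.h.S_le_C (show (x : G) ∈ (c.h.S : Subgroup G) from hx))⟩
  obtain ⟨e⟩ := c.below M c.proper _ hH
  have hmap : (Subgroup.normalClosure ({(⟨t, htM⟩ : M)} : Set M)).map M.subtype = Kgrp t := by
    rw [map_normalClosure]
    refine le_antisymm ((Subgroup.closure_le _).2 ?_) ((Subgroup.closure_le _).2 fun d hd => ?_)
    · rintro u ⟨x, hx, rfl⟩
      exact conn_mem_K hx
    · obtain ⟨g, hg, rfl⟩ := conn_exists hd
      exact Subgroup.subset_closure ⟨g, hg, rfl⟩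
  exact ⟨(((Subgroup.equivMapOfInjective _ M.subtype M.subtype_injective).trans
    (MulEquiv.subgroupCongr hmap)).symm).trans e⟩

/-- The isomorphism with the Janko group. -/
noncomputable def eK : Kgrp t ≃* Spor.J1 := c.K_iso.some

include c in
theorem card_K : Nat.card (Kgrp t) = 175560 := by
  rw [Nat.card_congr c.eK.toEquiv, JankoOne.card_J1]

include c in
theorem K_conj_t {k : G} (hk : k ∈ Kgrp t) (h2 : k * k = 1) (h1 : k ≠ 1) :
    ∃ a ∈ Kgrp t, a * t * a⁻¹ = k := by
  haveI := Fact.mk Nat.prime_two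
  have ho : ∀ x : Kgrp t, (x : G) * x = 1 → (x : G) ≠ 1 → orderOf (c.eK x) = 2 := fun x hx hx1 => by
    rw [MulEquiv.orderOf_eq]
    exact orderOf_eq_prime (Subtype.ext (by rw [Subgroup.coe_pow, pow_two]; exact hx))
      (fun e => hx1 (congrArg Subtype.val e :))
  obtain ⟨a, ha⟩ := JankoOne.invol_conj_tG (ho ⟨t, c.t_mem⟩ c.h.tt c.h.t_ne)
  obtain ⟨b, hb⟩ := JankoOne.invol_conj_tG (ho ⟨k, hk⟩ h2 h1)
  refine ⟨(c.eK.symm (b⁻¹ * a) : Kgrp t), (c.eK.symm _).2, ?_⟩
  have e : c.eK.symm (b⁻¹ * a) * ⟨t, c.t_mem⟩ * (c.eK.symm (b⁻¹ * a))⁻¹ = ⟨k, hk⟩ := by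
    apply c.eK.injective
    rw [map_mul, map_mul, map_inv, MulEquiv.apply_symm_apply,
      show b⁻¹ * a * c.eK ⟨t, c.t_mem⟩ * (b⁻¹ * a)⁻¹ = b⁻¹ * (a * c.eK ⟨t, c.t_mem⟩ * a⁻¹) * b by group, ha,
      ← hb]
    group
  exact congrArg Subtype.val e

include c in
theorem K_invol {k : G} (hk : k ∈ Kgrp t) (h2 : k * k = 1) (h1 : k ≠ 1) : Conn t k := by
  obtain ⟨a, ha, rfl⟩ := c.K_conj_t hk h2 h1
  exact K_le_M t ha

include c in
theorem K_trans {d : G} (hd : Conn t d) : ∃ a ∈ Kgrp t, a * t * a⁻¹ = d :=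
  c.K_conj_t (conn_mem_K hd) (conn_hyp c.h hd).tt (conn_hyp c.h hd).t_ne

include c in
theorem K_inter {x : G} (hx : x ∈ Kgrp t) (hxH : x ∈ hsub t) : x = 1 := by
  haveI : Finite Spor.J1 := Finite.of_equiv _ c.eK.toEquiv
  have hz : c.eK ⟨x, hx⟩ ∈ Subgroup.center Spor.J1 := Subgroup.mem_center_iff.2 fun y => by
    obtain ⟨k, rfl⟩ := c.eK.surjective y
    rw [← map_mul, ← map_mul]
    exact congrArg c.eK (Subtype.ext (hsub_K c.h hxH k.2).symm)
  exact congrArg Subtype.val ((MulEquiv.map_eq_one_iff c.eK).1 (j1_center hz))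

include c in
theorem decomp {g : G} (hg : g ∈ Mgrp t) : ∃ k ∈ Kgrp t, ∃ z ∈ hsub t, g = k * z := by
  obtain ⟨a, ha, e⟩ := c.K_trans hg
  have h1 : a⁻¹ * g * t = t * (a⁻¹ * g) := by
    calc a⁻¹ * g * t = a⁻¹ * (g * t * g⁻¹) * g := by group
      _ = a⁻¹ * (a * t * a⁻¹) * g := by rw [e]
      _ = t * (a⁻¹ * g) := by group
  obtain ⟨w, hw, z, hz, e'⟩ := c.h.cent_t_eq h1
  exact ⟨a * w, mul_mem ha (W_le_K t hw), z, hz, by rw [mul_assoc, ← e']; group⟩

open Classical in
/-- The projection to the component group. -/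
noncomputable def pr (g : G) : Kgrp t :=
  if hg : g ∈ Mgrp t then ⟨(c.decomp hg).choose, (c.decomp hg).choose_spec.1⟩ else 1

theorem pr_spec {g : G} (hg : g ∈ Mgrp t) : ∃ z ∈ hsub t, g = (c.pr g : G) * z := by
  rw [pr, dif_pos hg]
  exact (c.decomp hg).choose_spec.2

theorem pr_eq {k z : G} (hk : k ∈ Kgrp t) (hz : z ∈ hsub t) : (c.pr (k * z) : G) = k := by
  have hm : k * z ∈ Mgrp t := mul_mem (K_le_M t hk) (cent_le_M t (hsub_le_cent t hz))
  obtain ⟨z', hz', e⟩ := c.pr_spec hm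
  have h1 : k⁻¹ * (c.pr (k * z) : G) = z * z'⁻¹ := by
    rw [eq_mul_inv_iff_mul_eq, mul_assoc, ← e, inv_mul_cancel_left]
  exact (inv_mul_eq_one.1 (c.K_inter (mul_mem (inv_mem hk) (c.pr (k * z)).2)
    (h1 ▸ mul_mem hz (inv_mem hz')))).symm

theorem pr_mul {a b : G} (ha : a ∈ Mgrp t) (hb : b ∈ Mgrp t) : c.pr (a * b) = c.pr a * c.pr b := by
  obtain ⟨x, hx, ea⟩ := c.pr_spec ha
  obtain ⟨y, hy, eb⟩ := c.pr_spec hb
  refine Subtype.ext ?_
  have e : a * b = ((c.pr a : G) * (c.pr b : G)) * (x * y) := by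
    calc a * b = (c.pr a : G) * (x * (c.pr b : G)) * y := by
          conv_lhs => rw [ea, eb]
          group
      _ = (c.pr a : G) * ((c.pr b : G) * x) * y := by rw [hsub_K c.h hx (c.pr b).2]
      _ = ((c.pr a : G) * (c.pr b : G)) * (x * y) := by group
  rw [e]
  exact c.pr_eq (mul_mem (c.pr a).2 (c.pr b).2) (mul_mem hx hy)

theorem pr_one_iff {g : G} (hg : g ∈ Mgrp t) : c.pr g = 1 ↔ g ∈ hsub t := by
  constructor
  · intro e
    obtain ⟨z, hz, e'⟩ := c.pr_spec hg
    rw [e, Subgroup.coe_one, one_mul] at e'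
    exact e' ▸ hz
  · intro hz
    refine Subtype.ext ?_
    have := c.pr_eq (one_mem (Kgrp t)) hz
    rwa [one_mul] at this

/-- An element of the component group commuting with the projection commutes with the element. -/
theorem comm_of_pr {g k : G} (hg : g ∈ Mgrp t) (hk : k ∈ Kgrp t)
    (e : k * (c.pr g : G) = (c.pr g : G) * k) : k * g = g * k := by
  obtain ⟨z, hz, e'⟩ := c.pr_spec hg
  rw [e', ← mul_assoc, e, mul_assoc, ← hsub_K c.h hz hk, ← mul_assoc]

include c in
theorem conn_card : {d | Conn t d}.ncard = 1463 := by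
  have h1 : {d | Conn t d} = {u | ∃ x ∈ Kgrp t, x * t * x⁻¹ = u} := by
    ext d
    exact ⟨fun hd => c.K_trans hd, fun ⟨x, hx, e⟩ => e ▸ K_le_M t hx⟩
  have h2 : Subgroup.centralizer ({t} : Set G) ⊓ Kgrp t = Wsub t := by
    refine le_antisymm ?_ (le_inf (wsub_le_cent t) (W_le_K t))
    rintro x ⟨hx, hxK⟩
    obtain ⟨w, hw, z, hz, rfl⟩ := c.h.cent_t_eq (mem_cent.1 hx)
    have : z = 1 := c.K_inter ((Subgroup.mul_mem_cancel_left _ (W_le_K t hw)).1 hxK) hz
    rw [this, mul_one]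
    exact hw
  rw [h1, ncard_conj, ← Subgroup.inf_relIndex_right, h2]
  have h3 := Subgroup.card_mul_index ((Wsub t).subgroupOf (Kgrp t))
  rw [Nat.card_congr (Subgroup.subgroupOfEquivOfLe (W_le_K t)).toEquiv, c.h.card_W, c.card_K] at h3
  show ((Wsub t).subgroupOf (Kgrp t)).index = 1463
  omega

include c in
/-- Centralisers of non-central elements of the complement lie in the stabiliser. -/
theorem cent_le {z : G} (hz : z ∈ hsub t) (hzc : z ∉ Subgroup.center G) :
    Subgroup.centralizer ({z} : Set G) ≤ Mgrp t := by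
  haveI := Fact.mk Nat.prime_two
  set X := Subgroup.centralizer ({z} : Set G) with hXdef
  have hXne : X ≠ ⊤ := fun e => hzc (Subgroup.mem_center_iff.2 fun g =>
    mem_cent.1 (e ▸ Subgroup.mem_top g : g ∈ X))
  have hKX : Kgrp t ≤ X := fun k hk => mem_cent.2 (hsub_K c.h hz hk).symm
  have htX : t ∈ X := hKX c.t_mem
  set A := X ⊓ Subgroup.centralizer ({t} : Set G) with hA
  set B := X ⊓ Mgrp t with hB
  have hAB : A ≤ B := le_inf inf_le_left (inf_le_right.trans (cent_le_M t))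
  have hrel : ¬ 2 ∣ A.relIndex B := by
    have h1 : A.relIndex B = {u | ∃ x ∈ B, x * t * x⁻¹ = u}.ncard := by
      rw [ncard_conj, ← Subgroup.inf_relIndex_right A B, ← Subgroup.inf_relIndex_right (Subgroup.centralizer _) B]
      congr 1
      refine le_antisymm (inf_le_inf_right _ inf_le_right) (le_inf (le_inf ?_ inf_le_left) inf_le_right)
      exact inf_le_right.trans inf_le_left
    have h2 : {u | ∃ x ∈ B, x * t * x⁻¹ = u} = {d | Conn t d} := by
      ext u
      constructor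
      · rintro ⟨x, hx, rfl⟩
        exact hx.2
      · intro hu
        obtain ⟨a, ha, e⟩ := c.K_trans hu
        exact ⟨a, ⟨hKX ha, K_le_M t ha⟩, e⟩
    rw [h1, h2, c.conn_card]
    norm_num
  -- a Sylow subgroup of the centraliser of `t`
  let tA : A := ⟨t, htX, mem_cent.2 rfl⟩
  obtain ⟨P0, hP0⟩ := (IsPGroup.of_card (n := 1) (by
    rw [Nat.card_zpowers, ← Subgroup.orderOf_coe, pow_one]; exact c.h.ht) :
    IsPGroup 2 (Subgroup.zpowers tA)).exists_le_sylow
  set P := (P0 : Subgroup A).map A.subtype with hP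
  have hPA : P ≤ A := Subgroup.map_subtype_le _
  have htP : t ∈ P := ⟨tA, hP0 (Subgroup.mem_zpowers tA), rfl⟩
  have hmax : ∀ Q : Subgroup G, IsPGroup 2 Q → P ≤ Q → Q ≤ B → Q ≤ P := by
    intro Q hQ hPQ hQB
    rw [← Subgroup.relIndex_eq_one]
    have h1 := Subgroup.relIndex_mul_relIndex P Q B hPQ hQB
    have h2 := Subgroup.relIndex_mul_relIndex P A B hPA hAB
    have h3 : ¬ 2 ∣ P.relIndex A := by
      have e : P.subgroupOf A = (P0 : Subgroup A) := Subgroup.comap_map_eq_self_of_injective A.subtype_injective _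
      show ¬ 2 ∣ (P.subgroupOf A).index
      rw [e]
      exact P0.not_dvd_index
    have h4 : ¬ 2 ∣ P.relIndex Q := fun hd => by
      have : 2 ∣ P.relIndex A * A.relIndex B := by rw [h2, ← h1]; exact hd.mul_right _
      rcases Nat.prime_two.dvd_mul.1 this with e | e
      exacts [h3 e, hrel e]
    obtain ⟨n, hn⟩ := IsPGroup.iff_card.1 hQ
    have hd : P.relIndex Q ∣ 2 ^ n := hn ▸ (P.subgroupOf Q).index_dvd_card
    obtain ⟨i, -, hi⟩ := (Nat.dvd_prime_pow Nat.prime_two).1 hd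
    rcases Nat.eq_zero_or_pos i with rfl | hpos
    · simpa using hi
    · exact absurd (hi ▸ dvd_pow_self 2 hpos.ne') h4
  obtain ⟨Q, hQ⟩ := ((P0.isPGroup'.map A.subtype).comap_subtype (H := P) (K := X)).exists_le_sylow
  set QG := (Q : Subgroup X).map X.subtype with hQG
  have hPQ : P ≤ QG := fun x hx =>
    ⟨⟨x, (hPA hx).1⟩, hQ (show (⟨x, (hPA hx).1⟩ : X) ∈ P.comap X.subtype from hx), rfl⟩
  have hQ2 : IsPGroup 2 QG := Q.isPGroup'.map _
  have hQP : QG ≤ P := by
    by_contra hne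
    haveI : Group.IsNilpotent QG := hQ2.isNilpotent
    have hlt : P.subgroupOf QG < ⊤ := lt_top_iff_ne_top.2 fun e => hne (Subgroup.subgroupOf_eq_top.1 e)
    obtain ⟨q, hqN, hqP⟩ := SetLike.exists_of_lt (normalizerCondition_of_isNilpotent _ hlt)
    have hnorm : (q : G) * t * (q : G)⁻¹ ∈ P :=
      ((Subgroup.mem_normalizer_iff.1 hqN ⟨t, hPQ htP⟩).1 htP : _)
    have hqM : (q : G) ∈ Mgrp t := conn_of_wset
      (wset_of_isConj (isConj_iff.2 ⟨_, rfl⟩) (mem_cent.1 (hPA hnorm).2))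
    have hqX : (q : G) ∈ X := by
      obtain ⟨x, -, e⟩ := q.2
      rw [← e]
      exact x.2
    have hsub := hmax (QG ⊓ B) (hQ2.to_le inf_le_left) (le_inf hPQ (hPA.trans hAB)) inf_le_right
    exact hqP (hsub ⟨q.2, hqX, hqM⟩)
  have hH := hyp_sub c.h X htX (fun u hu => by
      obtain ⟨a, ha, e⟩ := c.K_trans (conn_of_wset hu)
      exact ⟨a, hKX ha, e⟩)
    ⟨Q, fun x hx => mem_cent.1 (hPA (hQP ⟨x, hx, rfl⟩)).2⟩
  obtain ⟨e⟩ := c.below X hXne _ hH
  set L := (Subgroup.normalClosure ({(⟨t, htX⟩ : X)} : Set X)).map X.subtype with hL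
  have hcard : Nat.card L = 175560 := by
    rw [Subgroup.card_map_of_injective X.subtype_injective, Nat.card_congr e.toEquiv, JankoOne.card_J1]
  have hle : Kgrp t ≤ L := by
    rw [hL, map_normalClosure]
    refine (Subgroup.closure_le _).2 fun d hd => ?_
    obtain ⟨a, ha, e⟩ := c.K_trans hd
    exact Subgroup.subset_closure ⟨a, hKX ha, e⟩
  have heq := Subgroup.eq_of_le_of_card_ge hle (by rw [hcard, c.card_K])
  intro x hx
  have hxL : x * t * x⁻¹ ∈ L := by
    rw [hL, map_normalClosure]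
    exact Subgroup.subset_closure ⟨x, hx, rfl⟩
  rw [← heq] at hxL
  exact conj_mem_M c.h (K_le_M t hxL) (isConj_iff.2 ⟨x, rfl⟩)

include c in
/-- The centraliser of an element projecting to an involution, with central square. -/
theorem cent_le_invol {s w z : G} (hw : Conn t w) (hz : z ∈ hsub t) (hs : s = w * z) :
    Subgroup.centralizer ({s} : Set G) ≤ Mgrp t := by
  haveI := Fact.mk Nat.prime_two
  set X := Subgroup.centralizer ({s} : Set G) with hXdef
  have hH := conn_hyp c.h hw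
  have hin : ∀ d, Conn t d → d * w = w * d → d ∈ X := fun d hd hdw => mem_cent.2 (by
    rw [hs, ← mul_assoc, hdw, mul_assoc, ← hsub_K c.h hz (conn_mem_K hd), mul_assoc])
  have hwX : w ∈ X := hin w hw rfl
  have hv : hH.sv b1 ∈ Wset w := hH.Y_wset hH.E_le_W hH.card_E (hH.sv_mem b1) (hH.sv_ne vec_ne.1)
  have hwv : hH.sv (1, 1, 0) ∈ Wset w := hH.Y_wset hH.E_le_W hH.card_E (hH.sv_mem _) (hH.sv_ne vec_ne.2.1)
  have e3 : hH.sv (1, 1, 0) = w * hH.sv b1 := by
    calc hH.sv (1, 1, 0) = hH.sv (e0 + b1) := congrArg hH.sv vec_ne.2.2.2.symm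
      _ = w * hH.sv b1 := by rw [hH.sv_add, hH.sv_t]
  have hvw : hH.sv b1 * w = w * hH.sv b1 := hH.emb_comm _
  have hcv : Conn t (hH.sv b1) := conn_trans hw (conn_of_wset hv)
  have hcwv : Conn t (hH.sv (1, 1, 0)) := conn_trans hw (conn_of_wset hwv)
  let wX : X := ⟨w, hwX⟩
  let vX : X := ⟨hH.sv b1, hin _ hcv hvw⟩
  have hwM : w ∈ Mgrp t := conn_mem_M hw
  have hiso : Cfsg.IsIsolatedInvolution wX := by
    refine ⟨by rw [← Subgroup.orderOf_coe]; exact hH.ht, fun g hg => Subtype.ext ?_⟩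
    show (g : G) * w * (g : G)⁻¹ = w
    have hc : w * ((g : G) * w * (g : G)⁻¹) = (g : G) * w * (g : G)⁻¹ * w := congrArg Subtype.val hg.eq
    have hgM : (g : G) ∈ Mgrp t := mem_M_of_conj hw
      (conn_trans hw (conn_of_wset (wset_of_isConj (isConj_iff.2 ⟨_, rfl⟩) hc.symm)))
    obtain ⟨y, hy, e⟩ := c.pr_spec hgM
    have hgs : (g : G) * s * (g : G)⁻¹ = s := conj_fix (mem_cent.1 g.2)
    have hk : (c.pr g : G) ∈ Kgrp t := (c.pr g).2
    have h1 : (g : G) * w * (g : G)⁻¹ = (c.pr g : G) * w * (c.pr g : G)⁻¹ := by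
      calc (g : G) * w * (g : G)⁻¹ = (c.pr g : G) * (y * w) * y⁻¹ * (c.pr g : G)⁻¹ := by
            conv_lhs => rw [e]
            group
        _ = (c.pr g : G) * (w * y) * y⁻¹ * (c.pr g : G)⁻¹ := by rw [hsub_K c.h hy (conn_mem_K hw)]
        _ = (c.pr g : G) * w * (c.pr g : G)⁻¹ := by group
    have hz' : (g : G) * z * (g : G)⁻¹ ∈ hsub t := M_hsub c.h hgM hz
    have h2 : (c.pr g : G) * w * (c.pr g : G)⁻¹ * ((g : G) * z * (g : G)⁻¹) = w * z := by
      rw [← h1, ← hs]
      calc (g : G) * w * (g : G)⁻¹ * ((g : G) * z * (g : G)⁻¹) = (g : G) * (w * z) * (g : G)⁻¹ := by group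
        _ = s := by rw [← hs]; exact hgs
    have := c.pr_eq (mul_mem (mul_mem hk (conn_mem_K hw)) (inv_mem hk)) hz'
    rw [h2, c.pr_eq (conn_mem_K hw) hz] at this
    rw [h1, ← this]
  have hOM : ∀ x ∈ Cfsg.oddCore X, (x : G) ∈ Mgrp t := by
    let O := Cfsg.oddCore X
    let cj : X → (O →* O) := fun a => (MulAut.conjNormal (H := O) a).toMonoidHom
    have hsq : ∀ a : X, a * a = 1 → ∀ x : O, cj a (cj a x) = x := fun a ha x => by
      show MulAut.conjNormal a (MulAut.conjNormal a x) = x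
      rw [← MulAut.mul_apply, ← map_mul, ha, map_one]
      rfl
    have hfix : ∀ a : X, Conn t (a : G) → ∀ x : O, cj a x = x → ((x : X) : G) ∈ Mgrp t := fun a ha x hx => by
      refine cent_conn_le_M ha ?_
      have := congrArg (fun y : O => ((y : X) : G)) hx
      simp only [cj, MulEquiv.toMonoidHom_eq_coe, MonoidHom.coe_coe, MulAut.conjNormal_apply, Subgroup.coe_mul,
        Subgroup.coe_inv] at this
      exact (mul_inv_eq_iff_eq_mul.1 this).symm
    have hwv' : wX * vX = vX * wX := Subtype.ext hvw.symm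
    intro x hx
    exact fixed_gen (Core.not_dvd_card_pPrimeCore) (cj wX) (cj vX) (hsq wX (Subtype.ext hH.tt))
      (hsq vX (Subtype.ext (hH.sv_sq b1)))
      (fun y => by
        show MulAut.conjNormal wX (MulAut.conjNormal vX y) = MulAut.conjNormal vX (MulAut.conjNormal wX y)
        rw [← MulAut.mul_apply, ← MulAut.mul_apply, ← map_mul, ← map_mul, hwv'])
      (F := ((Mgrp t).comap X.subtype).comap O.subtype) (hfix wX hw) (hfix vX hcv)
      (fun y hy => hfix (wX * vX) (by show Conn t (w * hH.sv b1); rw [← e3]; exact hcwv) y (by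
        show MulAut.conjNormal (wX * vX) y = y
        rw [map_mul, MulAut.mul_apply]
        exact hy)) ⟨x, hx⟩
  intro g hg
  have h1 := hOM _ (Invol.zstar hiso (⟨g, hg⟩ : X))
  have h2 : g * w * g⁻¹ ∈ Mgrp t := by
    have h3 := mul_mem (inv_mem hwM) h1
    have e : w⁻¹ * (w * g * w⁻¹ * g⁻¹) = g * w⁻¹ * g⁻¹ := by group
    change w⁻¹ * (w * g * w⁻¹ * g⁻¹) ∈ Mgrp t at h3
    rwa [e, hH.tinv] at h3
  exact mem_M_of_conj hw (conj_mem_M c.h h2 ((conn_isConj hw).trans (isConj_iff.2 ⟨g, rfl⟩)))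

include c in
/-- The component is the whole class. -/
theorem false : False := by
  classical
  haveI := Fact.mk Nat.prime_two
  haveI := Fintype.ofFinite G
  haveI := Fintype.ofFinite (G ⧸ Mgrp t)
  set M := Mgrp t with hMdef
  -- a large fibre
  let T : Finset G := Finset.univ.filter fun u => IsConj t u ∧ ¬ Conn t u
  have hT : T.card = (M.index - 1) * 1463 := by
    have h1 := ncard_conj t (⊤ : Subgroup G)
    rw [Subgroup.relIndex_top_right] at h1
    have h2 : (Subgroup.centralizer ({t} : Set G)).index = 1463 * M.index := by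
      rw [← Subgroup.relIndex_mul_index (cent_le_M t), ← ncard_conj,
        show {u | ∃ x ∈ Mgrp t, x * t * x⁻¹ = u} = {d | Conn t d} from Set.ext fun d =>
          ⟨fun ⟨x, hx, e⟩ => e ▸ hx, fun hd => conn_exists hd⟩, c.conn_card]
    have h3 : (T : Set G) = {u | ∃ x ∈ (⊤ : Subgroup G), x * t * x⁻¹ = u} \ {d | Conn t d} := by
      ext u
      simp [T, isConj_iff]
    rw [← Set.ncard_coe_finset, h3, Set.ncard_sdiff (fun d hd => by
      obtain ⟨g, -, e⟩ := conn_exists hd
      exact ⟨g, Subgroup.mem_top g, e⟩), h1, h2, c.conn_card, Nat.sub_mul, one_mul, mul_comm 1463]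
  let C : Finset (G ⧸ M) := Finset.univ.erase ((1 : G) : G ⧸ M)
  have hC : C.card = M.index - 1 := by
    rw [Finset.card_erase_of_mem (Finset.mem_univ _), Finset.card_univ, ← Nat.card_eq_fintype_card]
    rfl
  have hidx : 1 < M.index := by
    have h0 : M.index ≠ 0 := Subgroup.FiniteIndex.index_ne_zero
    have h1 : M.index ≠ 1 := fun e => c.proper (Subgroup.index_eq_one.1 e)
    omega
  obtain ⟨Y0, -, hY0⟩ := Finset.exists_le_card_fiber_of_mul_le_card_of_maps_to
    (s := T) (t := C) (f := fun u : G => (u : G ⧸ M)) (n := 1463)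
    (fun u hu => by
      refine Finset.mem_erase.2 ⟨fun e => ?_, Finset.mem_univ _⟩
      have hm : u ∈ M := by
        have := QuotientGroup.eq.1 e
        rwa [mul_one, inv_mem_iff] at this
      exact (Finset.mem_filter.1 hu).2.2 (conj_mem_M c.h hm (Finset.mem_filter.1 hu).2.1))
    (Finset.card_pos.1 (by rw [hC]; omega)) (by rw [hT, hC])
  obtain ⟨u0, hu0⟩ := Finset.card_pos.1 (lt_of_lt_of_le (by norm_num) hY0)
  have hu0' := Finset.mem_filter.1 hu0
  have hu0c := (Finset.mem_filter.1 hu0'.1).2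
  have hu0M : u0 ∉ M := fun hm => hu0c.2 (conj_mem_M c.h hm hu0c.1)
  have hinv2 : ∀ {u}, IsConj t u → u * u = 1 := fun {u} hu => by
    obtain ⟨g, rfl⟩ := isConj_iff.1 hu
    exact (c.h.conj g).tt
  have hu02 := hinv2 hu0c.1
  have hu0i : u0⁻¹ = u0 := inv_eq_of_mul_eq_one_right hu02
  have hcc : ∀ y, u0 * (u0 * y * u0) * u0 = y := fun y => by
    calc u0 * (u0 * y * u0) * u0 = u0 * u0 * y * (u0 * u0) := by group
      _ = y := by rw [hu02, one_mul, mul_one]
  have moved : ∀ d, Conn t d → u0 * d * u0 ∉ M := fun d hd hm => no_move c.h hu0M hd (by rwa [hu0i])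
  -- the intersection and its two projections
  let Y : Subgroup G := M ⊓ M.comap (MulAut.conj u0).toMonoidHom
  have hY : ∀ y, y ∈ Y ↔ y ∈ M ∧ u0 * y * u0 ∈ M := fun y => by
    show y ∈ M ∧ u0 * y * u0⁻¹ ∈ M ↔ _
    rw [hu0i]
  have hYc : ∀ y : Y, u0 * (y : G) * u0 ∈ Y := fun y =>
    (hY _).2 ⟨((hY _).1 y.2).2, by rw [hcc]; exact ((hY _).1 y.2).1⟩
  let θ : Y →* Spor.J1 := c.eK.toMonoidHom.comp (MonoidHom.mk' (fun y : Y => c.pr y)
    (fun a b => c.pr_mul a.2.1 b.2.1))
  let cY : Y →* Y := MonoidHom.mk' (fun y => ⟨u0 * y * u0, hYc y⟩) fun a b => Subtype.ext (by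
    show u0 * ((a : G) * b) * u0 = u0 * a * u0 * (u0 * b * u0)
    rw [show u0 * (a : G) * u0 * (u0 * b * u0) = u0 * a * (u0 * u0) * (b * u0) by group, hu02]
    group)
  have hcY : ∀ y, cY (cY y) = y := fun y => Subtype.ext (hcc y)
  let θ' : Y →* Spor.J1 := θ.comp cY
  have hθ : ∀ y : Y, θ y = c.eK (c.pr y) := fun _ => rfl
  have hker : ∀ y : Y, θ y = 1 ↔ (y : G) ∈ hsub t := fun y => by
    rw [hθ, MulEquiv.map_eq_one_iff, c.pr_one_iff y.2.1]
  have hker2 : ∀ y : Y, θ' y = 1 ↔ u0 * (y : G) * u0 ∈ hsub t := fun y => hker (cY y)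
  -- elements in both kernels are central
  have hboth : ∀ y : Y, θ y = 1 → θ' y = 1 → (y : G) ∈ Subgroup.center G := fun y h1 h2 => by
    by_contra hnc
    refine moved t (conn_refl t) (c.cent_le ((hker y).1 h1) hnc (mem_cent.2 ?_))
    have := conj_comm (g := u0) (mem_cent.1 (hsub_le_cent t ((hker2 y).1 h2))).symm
    rwa [hu0i, hcc] at this
  have hcent : ∀ y : Y, (y : G) ∈ Subgroup.center G → θ' y = θ y := fun y hy => by
    show θ (cY y) = θ y
    congr 1
    refine Subtype.ext ?_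
    show u0 * (y : G) * u0 = y
    rw [Subgroup.mem_center_iff.1 hy u0, mul_assoc, hu02, mul_one]
  -- no involution commutes with the second projection of a kernel element
  have L2 : ∀ y : Y, θ y = 1 → (y : G) ∉ Subgroup.center G → ∀ w : Spor.J1, orderOf w = 2 →
      w * θ' y = θ' y * w → False := by
    intro y h1 hnc w hw hcomm
    have hw2 : (c.eK.symm w : G) * (c.eK.symm w : G) = 1 := by
      rw [← Subgroup.coe_mul, ← map_mul, ← pow_two, ← hw, pow_orderOf_eq_one, map_one, Subgroup.coe_one]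
    have hw1 : (c.eK.symm w : G) ≠ 1 := fun e => by
      have : c.eK.symm w = 1 := Subtype.ext e
      rw [MulEquiv.map_eq_one_iff] at this
      rw [this, orderOf_one] at hw
      omega
    have hcw : Conn t (c.eK.symm w : G) := c.K_invol (c.eK.symm w).2 hw2 hw1
    have h4 : (c.eK.symm w : G) * (c.pr (u0 * y * u0) : G) = (c.pr (u0 * y * u0) : G) * (c.eK.symm w : G) := by
      rw [← Subgroup.coe_mul, ← Subgroup.coe_mul]
      refine congrArg Subtype.val (c.eK.injective ?_)
      rw [map_mul, map_mul, MulEquiv.apply_symm_apply]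
      exact hcomm
    have h5 := c.comm_of_pr ((hY _).1 y.2).2 (c.eK.symm w).2 h4
    refine moved _ hcw (c.cent_le ((hker y).1 h1) hnc (mem_cent.2 ?_))
    have := conj_comm (g := u0) h5
    rwa [hu0i, hcc] at this
  -- the first projection has odd order
  have hodd : ¬ 2 ∣ Nat.card θ.range := by
    intro h2
    obtain ⟨⟨w, hw⟩, ho⟩ := exists_prime_orderOf_dvd_card' 2 h2
    rw [← Subgroup.orderOf_coe] at ho
    obtain ⟨y, rfl⟩ := hw
    obtain ⟨a, m, hm, hym⟩ := Nat.exists_eq_two_pow_mul_odd (orderOf_pos y).ne'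
    let s := y ^ m
    have hs2 : s ^ 2 ^ a = 1 := by rw [← pow_mul, mul_comm, ← hym, pow_orderOf_eq_one]
    have hθs : θ s = θ y := by
      obtain ⟨r, rfl⟩ := hm
      have e2 : θ y ^ 2 = 1 := ho ▸ pow_orderOf_eq_one (θ y)
      rw [map_pow, pow_succ, pow_mul, e2, one_pow, one_mul]
    have ho' : orderOf (θ s) = 2 := by rw [hθs]; exact ho
    have hsq : θ (s * s) = 1 := by rw [map_mul, ← pow_two, ← ho', pow_orderOf_eq_one]
    have hz : ((s * s : Y) : G) ∈ Subgroup.center G := by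
      by_contra hnc
      have hk : θ' (s * s) ≠ 1 := fun e => hnc (hboth _ hsq e)
      have hb : orderOf (θ' s) ∣ 2 ^ a :=
        orderOf_dvd_of_pow_eq_one (by rw [← map_pow, hs2, map_one])
      obtain ⟨b, -, hb'⟩ := (Nat.dvd_prime_pow Nat.prime_two).1 hb
      have hb0 : b ≠ 0 := by
        rintro rfl
        rw [pow_zero, orderOf_eq_one_iff] at hb'
        exact hk (by rw [map_mul, hb', one_mul])
      refine L2 _ hsq hnc (θ' s ^ (orderOf (θ' s) / 2)) ?_ ?_
      · exact orderOf_pow_orderOf_div (orderOf_pos _).ne' (hb' ▸ dvd_pow_self 2 hb0)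
      · rw [map_mul]
        exact ((Commute.refl (θ' s)).mul_right (Commute.refl (θ' s))).pow_left _
    have hs'2 : θ' s * θ' s = 1 := by rw [← map_mul, hcent _ hz, hsq]
    -- the element and its parts
    obtain ⟨z, hz', hsz⟩ := c.pr_spec s.2.1
    have hw : Conn t (c.pr (s : G) : G) := by
      refine c.K_invol (c.pr _).2 ?_ ?_
      · rw [← Subgroup.coe_mul, ← c.pr_mul s.2.1 s.2.1]
        refine congrArg Subtype.val ((MulEquiv.map_eq_one_iff c.eK).1 ?_)
        exact hsq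
      · intro e
        have e' : c.pr (s : G) = 1 := Subtype.ext e
        rw [hθ, e', map_one, orderOf_one] at ho'
        omega
    by_cases hs' : θ' s = 1
    · have hnc : u0 * (s : G) * u0 ∉ Subgroup.center G := fun hc => by
        have e := Subgroup.mem_center_iff.1 hc u0
        have e1 : u0 * (s : G) * u0 = s := by
          calc u0 * (s : G) * u0 = u0 * (s : G) * u0 * (u0 * u0) := by rw [hu02, mul_one]
            _ = u0 * (u0 * (s : G) * u0) * u0 := by rw [← mul_assoc, e]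
            _ = s := hcc _
        have h1 := (hker2 s).1 hs'
        rw [e1] at h1
        rw [(hker s).2 h1, orderOf_one] at ho'
        omega
      refine moved _ hw (c.cent_le ((hker2 s).1 hs') hnc (mem_cent.2 ?_))
      have := conj_comm (g := u0) (c.comm_of_pr s.2.1 (c.pr (s : G)).2 rfl)
      rwa [hu0i] at this
    · have hk : Conn t (c.pr (u0 * (s : G) * u0) : G) := by
        refine c.K_invol (c.pr _).2 ?_ ?_
        · rw [← Subgroup.coe_mul, ← c.pr_mul (hYc s).1 (hYc s).1]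
          refine congrArg Subtype.val ((MulEquiv.map_eq_one_iff c.eK).1 ?_)
          rw [c.pr_mul (hYc s).1 (hYc s).1, map_mul]
          exact hs'2
        · intro e
          have e' : c.pr (u0 * (s : G) * u0) = 1 := Subtype.ext e
          apply hs'
          show c.eK (c.pr (u0 * (s : G) * u0)) = 1
          rw [e', map_one]
      refine moved _ hk (c.cent_le_invol hw hz' hsz (mem_cent.2 ?_))
      have := conj_comm (g := u0) (c.comm_of_pr (hYc s).1 (c.pr _).2 rfl)
      rwa [hu0i, hcc] at this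
  -- the fibre is small
  let N : Subgroup θ.range := (θ.ker.map θ').subgroupOf θ.range
  have hNle : θ.ker.map θ' ≤ θ.range := by
    rintro _ ⟨y, -, rfl⟩
    exact ⟨cY y, rfl⟩
  have hN : N.Normal := by
    refine ⟨fun n hn r => ?_⟩
    obtain ⟨z, hz, hzn⟩ := hn
    obtain ⟨y, hy⟩ := r.2
    refine ⟨cY y * z * (cY y)⁻¹, (MonoidHom.normal_ker θ).conj_mem z hz _, ?_⟩
    have e : θ' (cY y) = (r : Spor.J1) := by
      show θ (cY (cY y)) = _
      rw [hcY]
      exact hy
    rw [map_mul, map_mul, map_inv, e, hzn]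
    rfl
  have hcard : Nat.card θ.range ∣ 21945 := by
    have h1 : Nat.card θ.range ∣ 8 * 21945 := by
      show _ ∣ 175560
      rw [← JankoOne.card_J1]
      exact Subgroup.card_subgroup_dvd_card _
    exact (Nat.Coprime.pow_right 3 ((Nat.prime_two.coprime_iff_not_dvd.2 hodd).symm)).dvd_of_dvd_mul_left h1
  haveI : Finite Spor.J1 := Finite.of_equiv _ c.eK.toEquiv
  have hord : ∀ x : θ.range, orderOf x ∈ oddList := fun x => by
    rw [← Subgroup.orderOf_coe]
    exact order_odd fun h2 => hodd (h2.trans (by rw [Subgroup.orderOf_coe]; exact orderOf_dvd_natCard x))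
  have hN3 : ∀ x ∈ N, orderOf x ≠ 3 ∧ orderOf x ≠ 5 := by
    intro x hx
    have key : ∀ p, (p = 3 ∨ p = 5) → orderOf x ≠ p := by
      intro p hp ho
      rw [← Subgroup.orderOf_coe] at ho
      obtain ⟨z, hz, hzn⟩ := hx
      obtain ⟨w, hw, hwx⟩ := cent_small hp ho
      have hnc : (z : G) ∉ Subgroup.center G := fun hc => by
        have e : θ' z = 1 := (hcent z hc).trans hz
        rw [show (x : Spor.J1) = θ' z from hzn.symm, e, orderOf_one] at ho
        omega
      refine L2 z hz hnc w hw ?_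
      rw [hzn]
      exact hwx
    exact ⟨key 3 (Or.inl rfl), key 5 (Or.inr rfl)⟩
  have hbound := card_bound θ.range hcard hord N hN hN3
  have hNcard : Nat.card N = Nat.card (θ.ker.map θ') := Nat.card_congr (Subgroup.subgroupOfEquivOfLe hNle).toEquiv
  -- the injection
  let J : Finset G := T.filter fun u : G => (u : G ⧸ M) = Y0
  have hJmem : ∀ u : J, u0 * (u : G) ∈ Y ∧ IsConj t (u : G) := fun u => by
    have hu := Finset.mem_filter.1 u.2
    have h1 : u0 * (u : G) ∈ M := by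
      have := QuotientGroup.eq.1 (hu0'.2.trans hu.2.symm)
      rwa [hu0i] at this
    refine ⟨(hY _).2 ⟨h1, ?_⟩, (Finset.mem_filter.1 hu.1).2.1⟩
    have h2 : u0 * (u0 * (u : G)) * u0 = (u0 * (u : G))⁻¹ := by
      rw [mul_inv_rev, hu0i, inv_eq_of_mul_eq_one_right (hinv2 (Finset.mem_filter.1 hu.1).2.1),
        ← mul_assoc u0 u0, hu02, one_mul]
    rw [h2]
    exact inv_mem h1
  let yu : J → Y := fun u => ⟨u0 * (u : G), (hJmem u).1⟩
  let rep : θ.range → Y := fun r => r.2.choose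
  have hrep : ∀ r : θ.range, θ (rep r) = r := fun r => r.2.choose_spec
  have hdiff : ∀ u : J, (rep ⟨θ (yu u), yu u, rfl⟩)⁻¹ * yu u ∈ θ.ker := fun u => by
    rw [MonoidHom.mem_ker, map_mul, map_inv, hrep, inv_mul_cancel]
  let F : J → θ.range × ↥(θ.ker.map θ') := fun u =>
    (⟨θ (yu u), yu u, rfl⟩, ⟨θ' ((rep ⟨θ (yu u), yu u, rfl⟩)⁻¹ * yu u), _, hdiff u, rfl⟩)
  have hF : Function.Injective F := by
    intro u v e
    have e1 : (⟨θ (yu u), yu u, rfl⟩ : θ.range) = ⟨θ (yu v), yu v, rfl⟩ := congrArg Prod.fst e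
    have e2 : θ' ((rep ⟨θ (yu u), yu u, rfl⟩)⁻¹ * yu u) = θ' ((rep ⟨θ (yu v), yu v, rfl⟩)⁻¹ * yu v) :=
      congrArg Subtype.val (congrArg Prod.snd e)
    rw [e1, map_mul, map_mul, mul_left_cancel_iff] at e2
    set z := (yu u)⁻¹ * yu v with hzdef
    have hz1 : θ z = 1 := by
      rw [map_mul, map_inv, show θ (yu u) = θ (yu v) from congrArg Subtype.val e1, inv_mul_cancel]
    have hz2 : θ' z = 1 := by rw [map_mul, map_inv, e2, inv_mul_cancel]
    have hzc := hboth z hz1 hz2
    have hzG : (z : G) = (u : G)⁻¹ * (v : G) := by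
      show (u0 * (u : G))⁻¹ * (u0 * (v : G)) = _
      group
    obtain ⟨g, hg⟩ := isConj_iff.1 (hJmem u).2
    have hHu : Hyp (u : G) := hg ▸ c.h.conj g
    have huv : (v : G) = (u : G) * z := by rw [hzG]; group
    have hvw : (v : G) ∈ Wset (u : G) := by
      refine wset_of_isConj ((hJmem u).2.symm.trans (hJmem v).2) ?_
      rw [huv, mul_assoc, ← Subgroup.mem_center_iff.1 hzc (u : G)]
    have hzW : (z : G) ∈ Wsub (u : G) := by
      rw [hzG]
      exact mul_mem (inv_mem (wset_le (wset_self _))) (wset_le hvw)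
    have hzt : (z : G) ∈ Wsub t := by
      have := wsub_conj g⁻¹ hzW
      rwa [inv_inv, Subgroup.mem_center_iff.1 hzc g⁻¹, inv_mul_cancel_right, ← hg,
        show g⁻¹ * (g * t * g⁻¹) * g = t by group] at this
    have hz0 := c.h.W_inter_hsub hzt ((hker z).1 hz1)
    rw [hz0, mul_one] at huv
    exact Subtype.ext huv.symm
  haveI : Finite (θ.range × ↥(θ.ker.map θ')) := inferInstance
  have hle := Nat.card_le_card_of_injective F hF
  rw [Nat.card_prod, Nat.card_eq_fintype_card, Fintype.card_coe, ← hNcard] at hle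
  exact absurd (hY0.trans hle) (not_le.2 hbound)

end Comp

theorem main_step {t : G} (h : Hyp t) (hb : Below G) : Spor.IsoJ1 (Subgroup.normalClosure ({t} : Set G)) := by
  by_cases hM : Mgrp t = ⊤
  · exact h.component_top fun g => hM ▸ Subgroup.mem_top g
  · exact (Comp.false (⟨h, hb, hM⟩ : Comp t)).elim

theorem main_aux : ∀ (n : ℕ) (G : Type u) [Group G] [Finite G], Nat.card G < n →
    ∀ t : G, Hyp t → Spor.IsoJ1 (Subgroup.normalClosure ({t} : Set G)) := by
  intro n
  induction n with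
  | zero => intro G _ _ h; omega
  | succ n ih =>
    intro G _ _ hn t h
    refine main_step h fun X hX s hs => ih X ?_ s hs
    have h1 : Nat.card X ≠ Nat.card G := fun e => hX (Subgroup.eq_top_of_card_eq _ e)
    have h2 := Nat.le_of_dvd Nat.card_pos X.card_subgroup_dvd_card
    omega

/-- The normal closure is the first Janko group. -/
theorem main {t : G} (h : Hyp t) : Spor.IsoJ1 (Subgroup.normalClosure ({t} : Set G)) :=
  main_aux (Nat.card G + 1) G (Nat.lt_succ_self _) t h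

end Cfsg.Agent.WeakJ1
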