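import Cfsg.Agent.WeakJ1.Normal

/-!
Connected components of the graph of commuting conjugates, and their stabilisers.
-/

set_option autoImplicit false
set_option maxRecDepth 100000
set_option synthInstance.maxSize 10000
set_option synthInstance.maxHeartbeats 1000000
set_option linter.all false

namespace Cfsg.Agent.WeakJ1

variable {G : Type*} [Group G]

/-- Two involutions are linked when they are commuting conjugates. -/
def Link (a b : G) : Prop := b ∈ Wset a

/-- Connectedness. -/
def Conn : G → G → Prop := Relation.ReflTransGen Link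

theorem conn_refl (a : G) : Conn a a := Relation.ReflTransGen.refl

theorem conn_of_wset {a b : G} (h : b ∈ Wset a) : Conn a b := Relation.ReflTransGen.single h

theorem conn_trans {a b c : G} (h1 : Conn a b) (h2 : Conn b c) : Conn a c := Relation.ReflTransGen.trans h1 h2

theorem conn_symm {a b : G} (h : Conn a b) : Conn b a := by
  induction h with
  | refl => exact conn_refl _
  | tail _ hb ih => exact conn_trans (conn_of_wset (wset_symm hb)) ih

theorem conn_conj (g : G) {a b : G} (h : Conn a b) : Conn (g * a * g⁻¹) (g * b * g⁻¹) := by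
  induction h with
  | refl => exact conn_refl _
  | tail _ hb ih => exact conn_trans ih (conn_of_wset (wset_conj g hb))

theorem conn_isConj {a b : G} (h : Conn a b) : IsConj a b := by
  induction h with
  | refl => exact IsConj.refl _
  | tail _ hb ih => exact ih.trans (wset_isConj hb)

theorem conn_hyp {a b : G} (ha : Hyp a) (h : Conn a b) : Hyp b := by
  obtain ⟨g, rfl⟩ := isConj_iff.1 (conn_isConj h)
  exact ha.conj g

theorem conn_hsub [Finite G] {a b : G} (ha : Hyp a) (h : Conn a b) : hsub b = hsub a := by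
  induction h with
  | refl => rfl
  | tail hc hb ih => exact ((conn_hyp ha hc).hsub_link hb).trans ih

/-- The stabiliser of the component of `t`. -/
def Mgrp (t : G) : Subgroup G where
  carrier := {g | Conn t (g * t * g⁻¹)}
  one_mem' := by simpa using conn_refl t
  mul_mem' := fun {a b} ha hb => conn_trans ha (by
    have := conn_conj a hb
    rwa [show a * (b * t * b⁻¹) * a⁻¹ = a * b * t * (a * b)⁻¹ by group] at this)
  inv_mem' := fun {a} ha => conn_symm (by
    have := conn_conj a⁻¹ ha
    rwa [show a⁻¹ * (a * t * a⁻¹) * a⁻¹⁻¹ = t by group] at this)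

theorem mem_Mgrp {t g : G} : g ∈ Mgrp t ↔ Conn t (g * t * g⁻¹) := Iff.rfl

theorem cent_le_M (t : G) : Subgroup.centralizer ({t} : Set G) ≤ Mgrp t := fun g hg => by
  rw [mem_Mgrp, conj_fix (mem_cent.1 hg)]
  exact conn_refl t

theorem conn_exists {t d : G} (h : Conn t d) : ∃ g ∈ Mgrp t, g * t * g⁻¹ = d := by
  obtain ⟨g, rfl⟩ := isConj_iff.1 (conn_isConj h)
  exact ⟨g, h, rfl⟩

theorem conn_mem_M {t d : G} (h : Conn t d) : d ∈ Mgrp t := by
  have h1 := conn_conj d h
  rw [mul_inv_cancel_right] at h1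
  exact conn_trans h (conn_symm h1)

theorem conn_conj_mem {t g d : G} (hg : g ∈ Mgrp t) (h : Conn t d) : Conn t (g * d * g⁻¹) :=
  conn_trans hg (conn_conj g h)

theorem mem_M_of_conj {t d g : G} (h : Conn t d) (h' : Conn t (g * d * g⁻¹)) : g ∈ Mgrp t :=
  conn_trans h' (conn_symm (conn_conj g h))

theorem cent_conn_le_M {t d g : G} (h : Conn t d) (hc : g * d = d * g) : g ∈ Mgrp t :=
  mem_M_of_conj h (by rw [conj_fix hc]; exact h)

/-- The subgroup generated by the component. -/
def Kgrp (t : G) : Subgroup G := Subgroup.closure {d | Conn t d}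

theorem conn_mem_K {t d : G} (h : Conn t d) : d ∈ Kgrp t := Subgroup.subset_closure h

theorem W_le_K (t : G) : Wsub t ≤ Kgrp t := Subgroup.closure_mono fun _ hx => conn_of_wset hx

theorem K_le_M (t : G) : Kgrp t ≤ Mgrp t := (Subgroup.closure_le _).2 fun _ hd => conn_mem_M hd

theorem K_conj {t g k : G} (hg : g ∈ Mgrp t) (hk : k ∈ Kgrp t) : g * k * g⁻¹ ∈ Kgrp t := by
  have hle : Kgrp t ≤ (Kgrp t).comap (MulAut.conj g).toMonoidHom :=
    (Subgroup.closure_le _).2 fun d hd => conn_mem_K (conn_conj_mem hg hd)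
  exact hle hk

theorem K_le_normalClosure (t : G) : Kgrp t ≤ Subgroup.normalClosure ({t} : Set G) :=
  (Subgroup.closure_le _).2 fun d hd => by
    obtain ⟨g, rfl⟩ := isConj_iff.1 (conn_isConj hd)
    exact Subgroup.normalClosure_normal.conj_mem t (Subgroup.subset_normalClosure (Set.mem_singleton t)) g

variable [Finite G]

theorem hsub_K {t c k : G} (h : Hyp t) (hc : c ∈ hsub t) (hk : k ∈ Kgrp t) : c * k = k * c := by
  have hle : Kgrp t ≤ Subgroup.centralizer ({c} : Set G) := (Subgroup.closure_le _).2 fun d hd => by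
    rw [← conn_hsub h hd] at hc
    exact mem_cent.2 (mem_cent.1 (hsub_le_cent d hc)).symm
  exact (mem_cent.1 (hle hk)).symm

theorem M_hsub {t g c : G} (h : Hyp t) (hg : g ∈ Mgrp t) (hc : c ∈ hsub t) : g * c * g⁻¹ ∈ hsub t := by
  rw [← conn_hsub h hg]
  exact hsub_conj g hc

theorem conj_mem_M {t u : G} (h : Hyp t) (hu : u ∈ Mgrp t) (hc : IsConj t u) : Conn t u := by
  obtain ⟨g0, rfl⟩ := isConj_iff.1 hc
  set u := g0 * t * g0⁻¹
  have hH := h.conj g0
  haveI := Fact.mk Nat.prime_two
  have hp : IsPGroup 2 (Subgroup.zpowers u) :=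
    IsPGroup.of_card (n := 1) (by rw [Nat.card_zpowers, hH.ht, pow_one])
  obtain ⟨g, hg, hgu⟩ := sylow_conj_into h.S ((h.S_le_C).trans (cent_le_M t)) hp
    ((Subgroup.zpowers_le).2 hu)
  have hcm : u * (g * t * g⁻¹) = g * t * g⁻¹ * u := by
    have := conj_comm (g := g) (mem_cent.1 (h.S_le_C (hgu u (Subgroup.mem_zpowers u))))
    rwa [show g * (g⁻¹ * u * g) * g⁻¹ = u by group] at this
  exact conn_trans hg (conn_of_wset (wset_of_isConj
    ((isConj_iff.2 ⟨g, rfl⟩ : IsConj t _).symm.trans hc) hcm))

/-- A conjugating element outside the stabiliser moves the component out of it. -/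
theorem no_move {t u d : G} (h : Hyp t) (hu : u ∉ Mgrp t) (hd : Conn t d) (hm : u * d * u⁻¹ ∈ Mgrp t) : False :=
  hu (mem_M_of_conj hd (conj_mem_M h hm ((conn_isConj hd).trans (isConj_iff.2 ⟨u, rfl⟩))))

end Cfsg.Agent.WeakJ1
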