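import Cfsg.Agent.WeakJ1.Model

/-!
An involution whose conjugates commuting with it generate `2 × A₅`: the elementary abelian subgroup of order
eight, and fusion inside it.
-/

set_option autoImplicit false
set_option maxRecDepth 100000
set_option synthInstance.maxSize 10000
set_option synthInstance.maxHeartbeats 1000000
set_option linter.all false

namespace Cfsg.Agent.WeakJ1

open JOneRecog

variable {G : Type*} [Group G]

/-- The conjugates of `t` commuting with `t`. -/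
def Wset (t : G) : Set G := {x | ∃ g : G, x = g * t * g⁻¹ ∧ x * t = t * x}

/-- The group they generate. -/
def Wsub (t : G) : Subgroup G := Subgroup.closure (Wset t)

/-- The hypotheses. -/
structure Hyp (t : G) : Prop where
  ht : orderOf t = 2
  syl : ∃ S : Sylow 2 G, (S : Subgroup G) ≤ Subgroup.centralizer ({t} : Set G)
  iso : Nonempty (↥(Wsub t) ≃* M0)

theorem mem_cent {t x : G} : x ∈ Subgroup.centralizer ({t} : Set G) ↔ x * t = t * x :=
  Subgroup.mem_centralizer_singleton_iff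

theorem conj_comm {g a b : G} (h : a * b = b * a) :
    g * a * g⁻¹ * (g * b * g⁻¹) = g * b * g⁻¹ * (g * a * g⁻¹) := by
  rw [show g * a * g⁻¹ * (g * b * g⁻¹) = g * (a * b) * g⁻¹ by group, h]
  group

theorem wset_conj (g : G) {t x : G} (hx : x ∈ Wset t) : g * x * g⁻¹ ∈ Wset (g * t * g⁻¹) := by
  obtain ⟨a, rfl, hc⟩ := hx
  exact ⟨g * a * g⁻¹, by group, conj_comm hc⟩

theorem wset_symm {t x : G} (hx : x ∈ Wset t) : t ∈ Wset x := by
  obtain ⟨a, rfl, hc⟩ := hx
  exact ⟨a⁻¹, by group, hc.symm⟩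

theorem wset_self (t : G) : t ∈ Wset t := ⟨1, by group, rfl⟩

theorem wset_isConj {t x : G} (hx : x ∈ Wset t) : IsConj t x :=
  isConj_iff.2 ⟨hx.choose, hx.choose_spec.1.symm⟩

theorem wset_of_isConj {t x : G} (hc : IsConj t x) (h : x * t = t * x) : x ∈ Wset t := by
  obtain ⟨g, hg⟩ := isConj_iff.1 hc
  exact ⟨g, hg.symm, h⟩

theorem wset_le {t : G} : Wset t ⊆ (Wsub t : Set G) := Subgroup.subset_closure

theorem wsub_le_cent (t : G) : Wsub t ≤ Subgroup.centralizer ({t} : Set G) :=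
  (Subgroup.closure_le _).2 fun _ hx => mem_cent.2 hx.choose_spec.2

theorem wsub_conj (g : G) {t w : G} (hw : w ∈ Wsub t) : g * w * g⁻¹ ∈ Wsub (g * t * g⁻¹) := by
  have h : Wsub t ≤ (Wsub (g * t * g⁻¹)).comap (MulAut.conj g).toMonoidHom :=
    (Subgroup.closure_le _).2 fun x hx => Subgroup.subset_closure (wset_conj g hx)
  exact h hw

theorem conj_fix {g t : G} (h : g * t = t * g) : g * t * g⁻¹ = t := by
  rw [h, mul_inv_cancel_right]

theorem wsub_normal_in {g t w : G} (hg : g ∈ Subgroup.centralizer ({t} : Set G)) (hw : w ∈ Wsub t) :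
    g * w * g⁻¹ ∈ Wsub t := by
  have := wsub_conj g hw
  rwa [conj_fix (mem_cent.1 hg)] at this

theorem normalizer_of_le [Finite G] (H : Subgroup G) {n : G} (h : ∀ x ∈ H, n * x * n⁻¹ ∈ H) :
    n ∈ Subgroup.normalizer (H : Set G) := by
  have hle : H.map (MulAut.conj n).toMonoidHom ≤ H := Subgroup.map_le_iff_le_comap.2 h
  have heq := Subgroup.eq_of_le_of_card_ge hle
    (Subgroup.card_map_of_injective (MulAut.conj n).injective).ge
  refine Subgroup.mem_normalizer_iff.2 fun x => ⟨h x, fun hx => ?_⟩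
  rw [← heq] at hx
  obtain ⟨y, hy, e⟩ := hx
  rwa [(MulAut.conj n).injective (show MulAut.conj n y = MulAut.conj n x from e)] at hy

theorem sylow_conj_into [Finite G] (S : Sylow 2 G) {H P : Subgroup G} (hS : (S : Subgroup G) ≤ H)
    (hP : IsPGroup 2 P) (hPH : P ≤ H) : ∃ g ∈ H, ∀ x ∈ P, g⁻¹ * x * g ∈ (S : Subgroup G) := by
  haveI := Fact.mk Nat.prime_two
  obtain ⟨Q, hQ⟩ := (hP.comap_subtype (H := P) (K := H)).exists_le_sylow
  obtain ⟨g, hg⟩ := MulAction.exists_smul_eq H (S.subtype hS) Q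
  refine ⟨g, g.2, fun x hx => ?_⟩
  have h1 : (⟨x, hPH hx⟩ : H) ∈ (Q : Subgroup H) := hQ (show (⟨x, hPH hx⟩ : H) ∈ P.comap H.subtype from hx)
  rw [← hg, Sylow.coe_subgroup_smul, Subgroup.mem_pointwise_smul_iff_inv_smul_mem] at h1
  simpa [MulAut.smul_def, Subgroup.mem_subgroupOf] using h1

theorem mem_smul_sylow {p : ℕ} (g : G) (S : Sylow p G) (x : G) :
    x ∈ ((g • S : Sylow p G) : Subgroup G) ↔ g⁻¹ * x * g ∈ (S : Subgroup G) := by
  rw [Sylow.coe_subgroup_smul, Subgroup.mem_pointwise_smul_iff_inv_smul_mem]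
  simp [MulAut.smul_def]

theorem le_eight {K : Type*} [Group K] [Finite K] {P : Subgroup K} (hP : IsPGroup 2 P) (hd : Nat.card P ∣ 120) :
    Nat.card P ≤ 8 := by
  haveI := Fact.mk Nat.prime_two
  obtain ⟨n, hn⟩ := IsPGroup.iff_card.1 hP
  rw [hn] at hd ⊢
  have h3 : n ≤ 3 := by
    by_contra h
    have : 2 ^ 4 ∣ 120 := (pow_dvd_pow 2 (by omega : 4 ≤ n)).trans hd
    norm_num at this
  calc (2 : ℕ) ^ n ≤ 2 ^ 3 := Nat.pow_le_pow_right (by norm_num) h3
    _ = 8 := rfl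

theorem card_phi : Nat.card phi.range = 8 := by
  have hinj : Function.Injective phi := fun a b h => Multiplicative.toAdd.injective (vM_inj h)
  rw [← Nat.card_congr (MonoidHom.ofInjective hinj).toEquiv, Nat.card_congr Multiplicative.toAdd,
    Nat.card_eq_fintype_card]
  rfl

/-- A 2-subgroup of the model is conjugate into the standard one. -/
theorem model_conj (P : Subgroup M0) (hP : IsPGroup 2 P) :
    ∃ k : M0, ∀ m ∈ P, ∃ w, k * vM w * k⁻¹ = m := by
  haveI := Fact.mk Nat.prime_two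
  obtain ⟨R, hR⟩ := (IsPGroup.of_card (n := 3) (by rw [card_phi]; norm_num) :
    IsPGroup 2 phi.range).exists_le_sylow
  have hRe : phi.range = (R : Subgroup M0) := Subgroup.eq_of_le_of_card_ge hR (by
    rw [card_phi]
    exact le_eight R.isPGroup' (by rw [← card_M0]; exact Subgroup.card_subgroup_dvd_card _))
  obtain ⟨k, -, hk⟩ := sylow_conj_into R (H := ⊤) le_top hP le_top
  refine ⟨k, fun m hm => ?_⟩
  obtain ⟨w, hw⟩ : k⁻¹ * m * k ∈ phi.range := hRe.symm ▸ hk m hm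
  refine ⟨Multiplicative.toAdd w, ?_⟩
  rw [show vM (Multiplicative.toAdd w) = k⁻¹ * m * k from hw]
  group

theorem model_invol {m : M0} (h : m * m = 1) : ∃ k w, k * vM w * k⁻¹ = m := by
  haveI := Fact.mk Nat.prime_two
  have hp : IsPGroup 2 (Subgroup.zpowers m) := by
    obtain ⟨i, -, hi⟩ := (Nat.dvd_prime_pow Nat.prime_two).1
      (orderOf_dvd_of_pow_eq_one (x := m) (n := 2 ^ 1) (by rw [pow_one, pow_two, h]))
    exact IsPGroup.of_card (n := i) (by rw [Nat.card_zpowers, hi])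
  obtain ⟨k, hk⟩ := model_conj _ hp
  exact ⟨k, hk m (Subgroup.mem_zpowers m)⟩

theorem eight_cases : ∀ w : V3, w = 0 ∨ w = e0 ∨ w = b1 ∨ w = b2 ∨ w = (0, 1, 1) ∨
    w = (1, 1, 0) ∨ w = (1, 0, 1) ∨ w = (1, 1, 1) := by
  decide +kernel

/-- The fused set when one class is left out. -/
def setV : Finset V3 := {e0, b1, b2, (0, 1, 1)}

/-- The fused set when the other class is left out. -/
def setU : Finset V3 := {e0, (1, 1, 0), (1, 0, 1), (1, 1, 1)}

theorem card_set : setV.card = 4 ∧ setU.card = 4 := by decide +kernel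

theorem mem_set : ((0 : V3) ∉ setV ∧ e0 ∈ setV ∧ b1 ∈ setV ∧ b2 ∈ setV ∧ ((0, 1, 1) : V3) ∈ setV ∧
    ((1, 1, 0) : V3) ∉ setV ∧ ((1, 0, 1) : V3) ∉ setV ∧ ((1, 1, 1) : V3) ∉ setV) ∧
    ((0 : V3) ∉ setU ∧ e0 ∈ setU ∧ b1 ∉ setU ∧ b2 ∉ setU ∧ ((0, 1, 1) : V3) ∉ setU ∧
    ((1, 1, 0) : V3) ∈ setU ∧ ((1, 0, 1) : V3) ∈ setU ∧ ((1, 1, 1) : V3) ∈ setU) := by
  decide +kernel

namespace Hyp

variable {t : G} (h : Hyp t)

/-- The embedding of the model. -/
noncomputable def emb : M0 →* G := (Wsub t).subtype.comp h.iso.some.symm.toMonoidHom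

theorem emb_injective : Function.Injective h.emb :=
  fun _ _ e => h.iso.some.symm.injective (Subtype.ext e)

theorem emb_mem (m : M0) : h.emb m ∈ Wsub t := (h.iso.some.symm m).2

theorem exists_emb {x : G} (hx : x ∈ Wsub t) : ∃ m, h.emb m = x :=
  ⟨h.iso.some ⟨x, hx⟩, congrArg Subtype.val (h.iso.some.symm_apply_apply _)⟩

include h in
theorem tt : t * t = 1 := by rw [← pow_two, ← h.ht, pow_orderOf_eq_one]

include h in
theorem t_ne : t ≠ 1 := fun e => by
  have := h.ht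
  rw [e, orderOf_one] at this
  omega

include h in
theorem tinv : t⁻¹ = t := inv_eq_of_mul_eq_one_right h.tt

theorem emb_comm (m : M0) : h.emb m * t = t * h.emb m := mem_cent.1 (wsub_le_cent t (h.emb_mem m))

theorem emb_zM : h.emb zM = t := by
  obtain ⟨a, ha⟩ := h.exists_emb (wset_le (wset_self t))
  refine (congrArg h.emb
    (central_invol a (h.emb_injective ?_) (fun e => h.t_ne ?_) fun x => h.emb_injective ?_).symm).trans ha
  · rw [map_mul, map_one, ha, h.tt]
  · rw [← ha, e, map_one]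
  · rw [map_mul, map_mul, ha, h.emb_comm]

theorem card_W (h : Hyp t) : Nat.card (Wsub t) = 120 := by
  obtain ⟨e⟩ := h.iso
  rw [Nat.card_congr e.toEquiv, card_M0]

/-- The elements of the Sylow subgroup. -/
noncomputable def sv (w : V3) : G := h.emb (vM w)

/-- The Sylow subgroup of `W`. -/
noncomputable def E : Subgroup G := (h.emb.comp phi).range

theorem sv_add (a b : V3) : h.sv (a + b) = h.sv a * h.sv b := by rw [sv, vM_add, map_mul]; rfl

theorem sv_inj : Function.Injective h.sv := h.emb_injective.comp vM_inj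

theorem sv_zero : h.sv 0 = 1 := by rw [sv, vM_zero, map_one]

theorem sv_t : h.sv e0 = t := by rw [sv, vM_e0, h.emb_zM]

theorem mem_E {x : G} : x ∈ h.E ↔ ∃ w, h.sv w = x :=
  ⟨fun ⟨w, hw⟩ => ⟨Multiplicative.toAdd w, hw⟩, fun ⟨w, hw⟩ => ⟨Multiplicative.ofAdd w, hw⟩⟩

theorem sv_mem (w : V3) : h.sv w ∈ h.E := h.mem_E.2 ⟨w, rfl⟩

theorem t_mem_E : t ∈ h.E := h.mem_E.2 ⟨e0, h.sv_t⟩

theorem E_le_W : h.E ≤ Wsub t := fun x hx => by
  obtain ⟨w, rfl⟩ := h.mem_E.1 hx
  exact h.emb_mem _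

theorem E_le_C : h.E ≤ Subgroup.centralizer ({t} : Set G) := h.E_le_W.trans (wsub_le_cent t)

theorem card_E : Nat.card h.E = 8 := by
  have hinj : Function.Injective (h.emb.comp phi) := fun a b e =>
    Multiplicative.toAdd.injective (h.sv_inj e)
  rw [E, ← Nat.card_congr (MonoidHom.ofInjective hinj).toEquiv, Nat.card_congr Multiplicative.toAdd,
    Nat.card_eq_fintype_card]
  rfl

theorem sv_comm (a b : V3) : h.sv a * h.sv b = h.sv b * h.sv a := by
  rw [← h.sv_add, ← h.sv_add, add_comm]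

theorem E_comm {x y : G} (hx : x ∈ h.E) (hy : y ∈ h.E) : x * y = y * x := by
  obtain ⟨a, rfl⟩ := h.mem_E.1 hx
  obtain ⟨b, rfl⟩ := h.mem_E.1 hy
  exact h.sv_comm a b

theorem sv_sq (w : V3) : h.sv w * h.sv w = 1 := by
  rw [sv, ← map_mul, vM_sq, map_one]

theorem sv_ne {w : V3} (hw : w ≠ 0) : h.sv w ≠ 1 := fun e => hw (h.sv_inj (e.trans h.sv_zero.symm))

theorem E_isPGroup : IsPGroup 2 h.E := IsPGroup.of_card (n := 3) (by rw [h.card_E]; norm_num)

/-- Centraliser of `E` in `W`. -/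
theorem cent_E_W {x : G} (hx : x ∈ Wsub t) (hc : x ∈ Subgroup.centralizer (h.E : Set G)) : x ∈ h.E := by
  obtain ⟨m, rfl⟩ := h.exists_emb hx
  have k : ∀ w, m * vM w = vM w * m := fun w => h.emb_injective (by
    rw [map_mul, map_mul]; exact (Subgroup.mem_centralizer_iff.1 hc _ (h.sv_mem w)).symm)
  obtain ⟨w, hw⟩ := cent_vM m (k _) (k _)
  exact h.mem_E.2 ⟨w, congrArg h.emb hw⟩

theorem conj_emb {a b : M0} (hc : IsConj a b) : IsConj (h.emb a) (h.emb b) := by
  obtain ⟨c, hc⟩ := isConj_iff.1 hc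
  exact isConj_iff.2 ⟨h.emb c, by rw [← map_inv, ← map_mul, ← map_mul, hc]⟩

variable [Finite G]

theorem exists_S : ∃ S : Sylow 2 G, h.E ≤ S ∧ (S : Subgroup G) ≤ Subgroup.centralizer ({t} : Set G) := by
  obtain ⟨S, hS⟩ := h.syl
  obtain ⟨g, hg, hgE⟩ := sylow_conj_into S hS h.E_isPGroup h.E_le_C
  refine ⟨g • S, fun x hx => ?_, fun x hx => ?_⟩
  · exact (mem_smul_sylow g S x).2 (hgE x hx)
  · have hx' := (mem_smul_sylow g S x).1 hx
    have := mul_mem (mul_mem hg (hS hx')) (inv_mem hg)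
    rwa [show g * (g⁻¹ * x * g) * g⁻¹ = x by group] at this

/-- A Sylow 2-subgroup of `G` over `E`, centralising `t`. -/
noncomputable def S : Sylow 2 G := h.exists_S.choose

theorem E_le_S : h.E ≤ (h.S : Subgroup G) := h.exists_S.choose_spec.1

theorem S_le_C : (h.S : Subgroup G) ≤ Subgroup.centralizer ({t} : Set G) := h.exists_S.choose_spec.2

theorem inter_W {x : G} (hS : x ∈ (h.S : Subgroup G)) (hW : x ∈ Wsub t) : x ∈ h.E := by
  have he : h.E = (h.S : Subgroup G) ⊓ Wsub t := Subgroup.eq_of_le_of_card_ge (le_inf h.E_le_S h.E_le_W) (by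
    rw [h.card_E]
    exact le_eight (h.S.isPGroup'.to_le inf_le_left) (h.card_W ▸ Subgroup.card_dvd_of_le inf_le_right))
  rw [he]
  exact ⟨hS, hW⟩

theorem conj_in_S {x : G} (hS : x ∈ (h.S : Subgroup G)) (hc : IsConj t x) : x ∈ h.E :=
  h.inter_W hS (wset_le (wset_of_isConj hc (mem_cent.1 (h.S_le_C hS))))

theorem S_le_N : (h.S : Subgroup G) ≤ Subgroup.normalizer (h.E : Set G) := fun s hs =>
  normalizer_of_le _ fun x hx => h.inter_W (mul_mem (mul_mem hs (h.E_le_S hx)) (inv_mem hs))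
    (wsub_normal_in (h.S_le_C hs) (h.E_le_W hx))

/-- One of the two other classes of `W` fuses with `t`. -/
theorem some_fused : IsConj t (h.sv b1) ∨ IsConj t (h.sv (1, 1, 0)) := by
  by_contra hno
  rw [not_or] at hno
  have hset : Wset t ⊆ ↑(Subgroup.zpowers t) := by
    intro x hx
    obtain ⟨m, rfl⟩ := h.exists_emb (wset_le hx)
    have hc := wset_isConj hx
    have hm : m * m = 1 := by
      obtain ⟨g, hg, -⟩ := hx
      apply h.emb_injective
      rw [map_mul, map_one, hg, show g * t * g⁻¹ * (g * t * g⁻¹) = g * (t * t) * g⁻¹ by group, h.tt]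
      group
    obtain ⟨k, w, rfl⟩ := model_invol hm
    have hc' : IsConj t (h.sv w) := hc.trans (h.conj_emb (isConj_iff.2 ⟨k, rfl⟩)).symm
    obtain ⟨c1, c2, c3, c4⟩ := v_class'
    rcases eight_cases w with rfl | rfl | rfl | rfl | rfl | rfl | rfl | rfl
    · rw [h.sv_zero, isConj_one_left] at hc'
      exact absurd hc' h.t_ne
    · rw [vM_e0, ← zM_central, mul_inv_cancel_right, h.emb_zM]
      exact Subgroup.mem_zpowers t
    · exact absurd hc' hno.1
    · exact absurd (hc'.trans (h.conj_emb c1).symm) hno.1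
    · exact absurd (hc'.trans (h.conj_emb c2).symm) hno.1
    · exact absurd hc' hno.2
    · exact absurd (hc'.trans (h.conj_emb c3).symm) hno.2
    · exact absurd (hc'.trans (h.conj_emb c4).symm) hno.2
  have hle : Wsub t ≤ Subgroup.zpowers t := (Subgroup.closure_le _).2 hset
  have h1 := Subgroup.card_dvd_of_le hle
  rw [h.card_W, Nat.card_zpowers, h.ht] at h1
  norm_num at h1

theorem E_gen {H : Subgroup G} (hH : ∀ x ∈ h.E, IsConj t x → x ∈ H) : h.E ≤ H := by
  obtain ⟨c1, c2, c3, c4⟩ := v_class'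
  have key : ∀ a b : V3, IsConj t (h.sv a) → IsConj (h.sv a) (h.sv b) →
      (∀ w, w = 0 ∨ w = e0 ∨ w = a ∨ w = b ∨ w = e0 + a ∨ w = e0 + b ∨ w = a + b ∨ w = e0 + a + b) →
      h.E ≤ H := by
    intro a b ha hab hall x hx
    obtain ⟨w, rfl⟩ := h.mem_E.1 hx
    have mt : h.sv e0 ∈ H := hH _ (h.sv_mem _) (by rw [h.sv_t])
    have ma : h.sv a ∈ H := hH _ (h.sv_mem _) ha
    have mb : h.sv b ∈ H := hH _ (h.sv_mem _) (ha.trans hab)
    rcases hall w with rfl | rfl | rfl | rfl | rfl | rfl | rfl | rfl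
    · rw [h.sv_zero]; exact one_mem H
    · exact mt
    · exact ma
    · exact mb
    all_goals simp only [h.sv_add]
    · exact mul_mem mt ma
    · exact mul_mem mt mb
    · exact mul_mem ma mb
    · exact mul_mem (mul_mem mt ma) mb
  rcases h.some_fused with h1 | h1
  · exact key b1 b2 h1 (h.conj_emb c1) (by decide +kernel)
  · exact key (1, 1, 0) (1, 0, 1) h1 (h.conj_emb c3) (by decide +kernel)

/-- Fusion of `t` in `E` is controlled by the normaliser. -/
theorem exists_N {y : G} (hy : y ∈ h.E) (hc : IsConj t y) :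
    ∃ n ∈ Subgroup.normalizer (h.E : Set G), n * t * n⁻¹ = y := by
  obtain ⟨g, rfl⟩ := isConj_iff.1 hc
  have hS' : ((g • h.S : Sylow 2 G) : Subgroup G) ≤ Subgroup.centralizer ({g * t * g⁻¹} : Set G) := fun x hx => by
    have hx' := (mem_smul_sylow g h.S x).1 hx
    have := conj_comm (g := g) (mem_cent.1 (h.S_le_C hx'))
    rw [show g * (g⁻¹ * x * g) * g⁻¹ = x by group] at this
    exact mem_cent.2 this
  have hEy : h.E ≤ Subgroup.centralizer ({g * t * g⁻¹} : Set G) := fun x hx => mem_cent.2 (h.E_comm hx hy)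
  obtain ⟨k, hk, hkE⟩ := sylow_conj_into (g • h.S) hS' h.E_isPGroup hEy
  have e : k * g * t * (k * g)⁻¹ = g * t * g⁻¹ := by
    rw [show k * g * t * (k * g)⁻¹ = k * (g * t * g⁻¹) * k⁻¹ by group]
    exact conj_fix (mem_cent.1 hk)
  have hS2 : ∀ x ∈ h.E, (k * g)⁻¹ * x * (k * g) ∈ (h.S : Subgroup G) := fun x hx => by
    have := (mem_smul_sylow g h.S _).1 (hkE x hx)
    rwa [show (k * g)⁻¹ * x * (k * g) = g⁻¹ * (k⁻¹ * x * k) * g by group]
  have hE2 : h.E ≤ h.E.comap (MulAut.conj (k * g)⁻¹).toMonoidHom := h.E_gen fun x hx hcx => by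
    show (k * g)⁻¹ * x * (k * g)⁻¹⁻¹ ∈ h.E
    refine h.conj_in_S ?_ (hcx.trans (isConj_iff.2 ⟨_, rfl⟩))
    rw [inv_inv]
    exact hS2 x hx
  exact ⟨k * g, inv_inv (k * g) ▸ inv_mem (normalizer_of_le _ fun x hx => hE2 hx), e⟩

/-- All involutions of `E` are conjugate to `t`. -/
theorem sv_conj {w : V3} (hw : w ≠ 0) : IsConj t (h.sv w) := by
  haveI := Fact.mk Nat.prime_two
  let N := Subgroup.normalizer (h.E : Set G)
  letI : MulAction N G := MulAction.compHom G ((MulAut.conj : G →* MulAut G).comp N.subtype)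
  have horb : MulAction.orbit N t = h.sv '' {w | IsConj t (h.sv w)} := by
    ext y
    constructor
    · rintro ⟨n, rfl⟩
      obtain ⟨w, hw⟩ := h.mem_E.1 ((Subgroup.mem_normalizer_iff.1 n.2 t).1 h.t_mem_E)
      exact ⟨w, isConj_iff.2 ⟨n, hw.symm⟩, hw⟩
    · rintro ⟨w, hw, rfl⟩
      obtain ⟨n, hn, e⟩ := h.exists_N (h.sv_mem w) hw
      exact ⟨⟨n, hn⟩, e⟩
  have hodd : ¬ 2 ∣ ({w | IsConj t (h.sv w)} : Set V3).ncard := by
    have h1 := MulAction.index_stabilizer (G := N) t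
    rw [horb, Set.ncard_image_of_injective _ h.sv_inj] at h1
    rw [← h1]
    intro hd
    apply h.S.not_dvd_index
    rw [← Subgroup.relIndex_mul_index h.S_le_N]
    refine dvd_mul_of_dvd_left (hd.trans (Subgroup.index_dvd_of_le ?_)) _
    exact fun s hs => conj_fix (mem_cent.1 (h.S_le_C hs))
  obtain ⟨c1, c2, c3, c4⟩ := v_class'
  have ht0 : IsConj t (h.sv e0) := by rw [h.sv_t]
  have hz : ¬ IsConj t (h.sv 0) := fun hc => by
    rw [h.sv_zero, isConj_one_left] at hc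
    exact h.t_ne hc
  by_cases hv : IsConj t (h.sv b1) <;> by_cases hu : IsConj t (h.sv (1, 1, 0))
  · rcases eight_cases w with rfl | rfl | rfl | rfl | rfl | rfl | rfl | rfl
    exacts [absurd rfl hw, ht0, hv, hv.trans (h.conj_emb c1), hv.trans (h.conj_emb c2), hu,
      hu.trans (h.conj_emb c3), hu.trans (h.conj_emb c4)]
  · exfalso
    refine hodd ?_
    obtain ⟨m0, m1, m2, m3, m4, m5, m6, m7⟩ := mem_set.1
    rw [show {w | IsConj t (h.sv w)} = (setV : Set V3) from ?_, Set.ncard_coe_finset, card_set.1]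
    · norm_num
    ext w
    rcases eight_cases w with rfl | rfl | rfl | rfl | rfl | rfl | rfl | rfl
    exacts [iff_of_false hz m0, iff_of_true ht0 m1, iff_of_true hv m2,
      iff_of_true (hv.trans (h.conj_emb c1)) m3, iff_of_true (hv.trans (h.conj_emb c2)) m4,
      iff_of_false hu m5, iff_of_false (fun e => hu (e.trans (h.conj_emb c3).symm)) m6,
      iff_of_false (fun e => hu (e.trans (h.conj_emb c4).symm)) m7]
  · exfalso
    refine hodd ?_
    obtain ⟨m0, m1, m2, m3, m4, m5, m6, m7⟩ := mem_set.2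
    rw [show {w | IsConj t (h.sv w)} = (setU : Set V3) from ?_, Set.ncard_coe_finset, card_set.2]
    · norm_num
    ext w
    rcases eight_cases w with rfl | rfl | rfl | rfl | rfl | rfl | rfl | rfl
    exacts [iff_of_false hz m0, iff_of_true ht0 m1, iff_of_false hv m2,
      iff_of_false (fun e => hv (e.trans (h.conj_emb c1).symm)) m3,
      iff_of_false (fun e => hv (e.trans (h.conj_emb c2).symm)) m4, iff_of_true hu m5,
      iff_of_true (hu.trans (h.conj_emb c3)) m6, iff_of_true (hu.trans (h.conj_emb c4)) m7]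
  · rcases h.some_fused with h' | h'
    exacts [absurd h' hv, absurd h' hu]

include h

/-- All involutions of `W` are conjugate to `t`. -/
theorem invol_W {x : G} (hx : x ∈ Wsub t) (h2 : x * x = 1) (h1 : x ≠ 1) : x ∈ Wset t := by
  refine wset_of_isConj ?_ (mem_cent.1 (wsub_le_cent t hx))
  obtain ⟨m, rfl⟩ := h.exists_emb hx
  obtain ⟨k, w, rfl⟩ := model_invol (m := m) (h.emb_injective (by rw [map_mul, map_one, h2]))
  refine (h.sv_conj ?_).trans (h.conj_emb (isConj_iff.2 ⟨k, rfl⟩))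
  rintro rfl
  exact h1 (by rw [vM_zero, mul_one, mul_inv_cancel, map_one])

/-- Subgroups of order eight of `W` are conjugate to `E`. -/
theorem exists_conj_Y {Y : Subgroup G} (hY : Y ≤ Wsub t) (h8 : Nat.card Y = 8) :
    ∃ w ∈ Wsub t, ∀ x, x ∈ Y ↔ w⁻¹ * x * w ∈ h.E := by
  haveI := Fact.mk Nat.prime_two
  have hP : IsPGroup 2 (Y.comap h.emb) :=
    (IsPGroup.of_card (n := 3) (by rw [h8]; norm_num) : IsPGroup 2 Y).comap_of_injective _ h.emb_injective
  obtain ⟨k, hk⟩ := model_conj _ hP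
  refine ⟨h.emb k, h.emb_mem k, ?_⟩
  have hsub : Y ≤ h.E.map (MulAut.conj (h.emb k)).toMonoidHom := fun x hx => by
    obtain ⟨m, rfl⟩ := h.exists_emb (hY hx)
    obtain ⟨w, hw⟩ := hk m hx
    exact ⟨h.sv w, h.sv_mem w, by
      show h.emb k * h.emb (vM w) * (h.emb k)⁻¹ = _
      rw [← map_inv, ← map_mul, ← map_mul, hw]⟩
  have heq := Subgroup.eq_of_le_of_card_ge hsub
    (by rw [Subgroup.card_map_of_injective (MulAut.conj (h.emb k)).injective, h.card_E, h8])
  intro x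
  rw [heq]
  constructor
  · rintro ⟨y, hy, rfl⟩
    show (h.emb k)⁻¹ * (h.emb k * y * (h.emb k)⁻¹) * h.emb k ∈ h.E
    rwa [show (h.emb k)⁻¹ * (h.emb k * y * (h.emb k)⁻¹) * h.emb k = y by group]
  · intro hx
    exact ⟨_, hx, by show h.emb k * ((h.emb k)⁻¹ * x * h.emb k) * (h.emb k)⁻¹ = x; group⟩

theorem Y_comm {Y : Subgroup G} (hY : Y ≤ Wsub t) (h8 : Nat.card Y = 8) {x y : G} (hx : x ∈ Y) (hy : y ∈ Y) :
    x * y = y * x := by
  obtain ⟨w, -, hw⟩ := h.exists_conj_Y hY h8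
  have := conj_comm (g := w) (h.E_comm ((hw x).1 hx) ((hw y).1 hy))
  simpa [mul_assoc] using this

theorem Y_t {Y : Subgroup G} (hY : Y ≤ Wsub t) (h8 : Nat.card Y = 8) : t ∈ Y := by
  obtain ⟨w, hwW, hw⟩ := h.exists_conj_Y hY h8
  rw [hw, mul_assoc, ← mem_cent.1 (wsub_le_cent t hwW), inv_mul_cancel_left]
  exact h.t_mem_E

theorem Y_invol {Y : Subgroup G} (hY : Y ≤ Wsub t) (h8 : Nat.card Y = 8) {x : G} (hx : x ∈ Y) : x * x = 1 := by
  obtain ⟨w, -, hw⟩ := h.exists_conj_Y hY h8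
  obtain ⟨v, hv⟩ := h.mem_E.1 ((hw x).1 hx)
  rw [show x = w * h.sv v * w⁻¹ by rw [hv]; group, show w * h.sv v * w⁻¹ * (w * h.sv v * w⁻¹) =
    w * (h.sv v * h.sv v) * w⁻¹ by group, h.sv_sq]
  group

theorem Y_wset {Y : Subgroup G} (hY : Y ≤ Wsub t) (h8 : Nat.card Y = 8) {e : G} (he : e ∈ Y) (he1 : e ≠ 1) :
    e ∈ Wset t := h.invol_W (hY he) (h.Y_invol hY h8 he) he1

theorem Y_le_Wsub {Y : Subgroup G} (hY : Y ≤ Wsub t) (h8 : Nat.card Y = 8) {e : G} (he : e ∈ Y) (he1 : e ≠ 1) :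
    Y ≤ Wsub e := fun x hx => by
  by_cases hx1 : x = 1
  · rw [hx1]; exact one_mem _
  exact wset_le (wset_of_isConj ((wset_isConj (h.Y_wset hY h8 he he1)).symm.trans
    (wset_isConj (h.Y_wset hY h8 hx hx1))) (h.Y_comm hY h8 hx he))

theorem Y_cent_W {Y : Subgroup G} (hY : Y ≤ Wsub t) (h8 : Nat.card Y = 8) {x : G} (hx : x ∈ Wsub t)
    (hc : x ∈ Subgroup.centralizer (Y : Set G)) : x ∈ Y := by
  obtain ⟨w, hwW, hw⟩ := h.exists_conj_Y hY h8
  rw [hw]
  refine h.cent_E_W (mul_mem (mul_mem (inv_mem hwW) hx) hwW) (Subgroup.mem_centralizer_iff.2 fun e he => ?_)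
  have he' : w * e * w⁻¹ ∈ Y := (hw _).2 (by rwa [show w⁻¹ * (w * e * w⁻¹) * w = e by group])
  have := conj_comm (g := w⁻¹) (Subgroup.mem_centralizer_iff.1 hc _ he')
  rw [inv_inv, show w⁻¹ * (w * e * w⁻¹) * w = e by group] at this
  exact this

end Hyp

/-- The hypotheses pass to conjugates. -/
theorem Hyp.conj {t : G} (h : Hyp t) (g : G) : Hyp (g * t * g⁻¹) := by
  obtain ⟨S, hS⟩ := h.syl
  obtain ⟨e⟩ := h.iso
  refine ⟨(orderOf_injective (MulAut.conj g).toMonoidHom (MulAut.conj g).injective t).trans h.ht,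
    ⟨g • S, fun x hx => ?_⟩, ⟨?_⟩⟩
  · have hx' := (mem_smul_sylow g S x).1 hx
    have := conj_comm (g := g) (mem_cent.1 (hS hx'))
    rw [show g * (g⁻¹ * x * g) * g⁻¹ = x by group] at this
    exact mem_cent.2 this
  · have hmap : (Wsub t).map (MulAut.conj g).toMonoidHom = Wsub (g * t * g⁻¹) := by
      refine le_antisymm (Subgroup.map_le_iff_le_comap.2 fun x hx => wsub_conj g hx) fun x hx => ?_
      refine ⟨g⁻¹ * x * g, ?_, by show g * (g⁻¹ * x * g) * g⁻¹ = x; group⟩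
      have := wsub_conj g⁻¹ hx
      rwa [inv_inv, show g⁻¹ * (g * t * g⁻¹) * g = t by group] at this
    exact ((Subgroup.equivMapOfInjective (Wsub t) (MulAut.conj g).toMonoidHom
      (MulAut.conj g).injective).trans (MulEquiv.subgroupCongr hmap)).symm.trans e

theorem Hyp.of_wset {t x : G} (h : Hyp t) (hx : x ∈ Wset t) : Hyp x := by
  obtain ⟨g, rfl, -⟩ := hx
  exact h.conj g

end Cfsg.Agent.WeakJ1
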