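import Cfsg.Agent.JOneRecog.Normal

/-!
Finite facts about the model `2 × A₅` and about linear maps of a space with eight vectors.
-/

set_option autoImplicit false
set_option maxRecDepth 100000
set_option synthInstance.maxSize 10000
set_option synthInstance.maxHeartbeats 1000000
set_option linter.all false

namespace Cfsg.Agent.WeakJ1

open Equiv JOneRecog

/-- The vector of the central involution. -/
def e0 : V3 := (1, 0, 0)

/-- The first vector of the four group. -/
def b1 : V3 := (0, 1, 0)

/-- The second vector of the four group. -/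
def b2 : V3 := (0, 0, 1)

/-- An automorphism of order seven moving the centre. -/
def valid (x y z : V3) : Bool :=
  decide (x ≠ e0) && basisV.all fun w => decide (itV (lin3 x y z) 7 w = w)

/-- All words in `p` and `s` fixing the centre preserve the four group. -/
def wordsOk (p s : V3 → V3) : Bool :=
  (List.finRange 7).all fun i => (List.finRange 7).all fun j =>
    !(decide (itV p i.val (s (itV p j.val e0)) = e0)) ||
      (decide ((itV p i.val (s (itV p j.val b1))).1 = 0) && decide ((itV p i.val (s (itV p j.val b2))).1 = 0))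

/-- The product of `rho`, `p` and their inverses. -/
def mixV (p : V3 → V3) (w : V3) : V3 := rho (p (rho2 (itV p 6 w)))

theorem valid_orbit : ∀ x y z : V3, valid x y z = true →
    (∀ w : V3, w ≠ 0 → lin3 x y z w ≠ w) ∧ (∀ w : V3, w ≠ 0 → ∃ i : Fin 7, itV (lin3 x y z) i.val e0 = w) := by
  decide +kernel

theorem stab_small : ∀ x y z : V3, valid x y z = true → ∀ b c : V3, b.1 = 0 → c.1 = 0 → b ≠ 0 → c ≠ 0 → b ≠ c →
    wordsOk (lin3 x y z) (lin3 e0 b c) = true → (b = b1 ∧ c = b2) ∨ (b = rho b1 ∧ c = rho b2) ∨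
      (b = rho2 b1 ∧ c = rho2 b2) := by
  decide +kernel

theorem mix_valid : ∀ x y z : V3, valid x y z = true → wordsOk (lin3 x y z) rho = true →
    valid (mixV (lin3 x y z) e0) (mixV (lin3 x y z) b1) (mixV (lin3 x y z) b2) = true ∧
    ∃ k : Fin 7, k ≠ 0 ∧ (basisV.all fun w =>
      decide (rho (lin3 (mixV (lin3 x y z) e0) (mixV (lin3 x y z) b1) (mixV (lin3 x y z) b2) (rho2 w)) =
        itV (lin3 (mixV (lin3 x y z) e0) (mixV (lin3 x y z) b1) (mixV (lin3 x y z) b2)) k.val w)) = true := by
  decide +kernel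

theorem rho_add : ∀ a b : V3, rho (a + b) = rho a + rho b := by decide +kernel

theorem rho_fix : ∀ w : V3, rho w = w → w = 0 ∨ w = e0 := by decide +kernel

theorem rho_e0 : rho e0 = e0 := by decide +kernel

theorem vM_zero : vM 0 = 1 := by decide +kernel

theorem vM_e0 : vM e0 = zM := by decide +kernel

theorem vM_sq (w : V3) : vM w * vM w = 1 := by
  rw [← vM_add, (by decide +kernel : ∀ a : V3, a + a = 0) w, vM_zero]

theorem rA_act : ∀ w : V3, ((1, rA) : M0) * vM w * ((1, rA) : M0)⁻¹ = vM (rho w) := fun w => by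
  rw [rA_conj, mul_inv_cancel_right]

/-- The four group is generated by squares. -/
theorem sq_prod : ∀ i : Fin 2, ∃ a b : M0, a * a * (b * b) = vM (![b1, b2] i) := by
  have h : ∀ p q : A5, p * p * p = 1 → q * q * q = 1 → ((1, p * q) : M0) =
      (1, p * p) * (1, p * p) * ((1, q * q) * (1, q * q)) := fun p q hp hq => by
    refine Prod.ext (by simp) ?_
    show p * q = p * p * (p * p) * (q * q * (q * q))
    rw [show p * p * (p * p) = p * p * p * p by group, show q * q * (q * q) = q * q * q * q by group, hp, hq,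
      one_mul, one_mul]
  intro i
  fin_cases i
  · let q : A5 := ⟨swap 1 2 * swap 2 3, Perm.mem_alternatingGroup.2 (by decide)⟩
    exact ⟨_, _, (h rA q (by decide +kernel) (by decide +kernel)).symm.trans (by decide +kernel)⟩
  · let p : A5 := ⟨swap 0 2 * swap 2 1, Perm.mem_alternatingGroup.2 (by decide)⟩
    let q : A5 := ⟨swap 2 1 * swap 1 3, Perm.mem_alternatingGroup.2 (by decide)⟩
    exact ⟨_, _, (h p q (by decide +kernel) (by decide +kernel)).symm.trans (by decide +kernel)⟩

theorem sq_fst (m : M0) : (m * m).1 = 1 :=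
  (by decide +kernel : ∀ a : Multiplicative (ZMod 2), a * a = 1) m.1

theorem vM_fst : ∀ w : V3, (vM w).1 = 1 → w.1 = 0 := by decide +kernel

theorem cent_vu : ∀ σ : Perm (Fin 5), σ * vA.1 = vA.1 * σ → σ * uA.1 = uA.1 * σ →
    σ = 1 ∨ σ = vA.1 ∨ σ = uA.1 ∨ σ = vA.1 * uA.1 := by
  decide +kernel

theorem cent_vu' (a : Perm (Fin 5)) (h1 : a * vA.1 = vA.1 * a) (h2 : a * uA.1 = uA.1 * a) :
    ∃ w : V3, w.1 = 0 ∧ (vM w).2.1 = a := by
  rcases cent_vu a h1 h2 with rfl | rfl | rfl | rfl
  exacts [⟨0, rfl, by decide +kernel⟩, ⟨b1, rfl, by decide +kernel⟩, ⟨b2, rfl, by decide +kernel⟩,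
    ⟨(0, 1, 1), rfl, by decide +kernel⟩]

/-- The Sylow subgroup of the model is its own centraliser. -/
theorem cent_vM (m : M0) (h1 : m * vM b1 = vM b1 * m) (h2 : m * vM b2 = vM b2 * m) : ∃ w, vM w = m := by
  have e1 : (vM b1).2 = vA := by decide +kernel
  have e2 : (vM b2).2 = uA := by decide +kernel
  have g1 := congrArg Subtype.val (congrArg Prod.snd h1)
  have g2 := congrArg Subtype.val (congrArg Prod.snd h2)
  simp only [Prod.snd_mul, Subgroup.coe_mul, e1, e2] at g1 g2
  obtain ⟨w, hw0, hw⟩ := cent_vu' _ g1 g2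
  refine ⟨(Multiplicative.toAdd m.1, w.2), Prod.ext rfl (Subtype.ext ?_)⟩
  rw [← hw]
  rfl

/-- The centre of the model. -/
theorem center_M0 (m : M0) (h : ∀ x, m * x = x * m) : m = 1 ∨ m = zM := by
  obtain ⟨w, rfl⟩ := cent_vM m (h _) (h _)
  have hr : vM (rho w) = vM w := by rw [← rA_act, ← h, mul_inv_cancel_right]
  rcases rho_fix w (vM_inj hr) with rfl | rfl
  · exact Or.inl vM_zero
  · exact Or.inr vM_e0

theorem zM_central (m : M0) : zM * m = m * zM :=
  Prod.ext (mul_comm _ _) (by simp [zM])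

theorem central_invol (m : M0) (h2 : m * m = 1) (h1 : m ≠ 1) (h : ∀ x, m * x = x * m) : m = zM := by
  rcases center_M0 m h with rfl | rfl
  · exact absurd rfl h1
  · rfl

/-- Homomorphisms to the centre are trivial on the simple factor. -/
theorem hom_A5_trivial (χ : A5 →* Multiplicative (ZMod 2)) (a : A5) : χ a = 1 := by
  have hle : ∀ g : A5, (g : Perm (Fin 5)).IsThreeCycle → g ∈ χ.ker := fun g hg => by
    have h3 : g ^ 3 = 1 := Subtype.ext (by
      rw [Subgroup.coe_pow, ← hg.orderOf, pow_orderOf_eq_one]; rfl)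
    have := congrArg χ h3
    rw [map_pow, map_one, pow_succ, pow_two, (by decide +kernel : ∀ a : Multiplicative (ZMod 2), a * a = 1) (χ g),
      one_mul] at this
    exact this
  have : χ.ker = ⊤ := by
    rw [eq_top_iff, ← alternatingGroup.closure_isThreeCycles_eq_top, Subgroup.closure_le]
    exact fun g hg => hle g hg
  exact MonoidHom.mem_ker.1 (this ▸ Subgroup.mem_top a)

/-- There is no non-trivial normal subgroup of odd order. -/
theorem odd_normal_trivial {N : Subgroup M0} (hN : N.Normal) (hodd : ¬ 2 ∣ Nat.card N) : N = ⊥ := by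
  haveI : IsSimpleGroup A5 := alternatingGroup.isSimpleGroup_five
  haveI := Fact.mk Nat.prime_two
  have hmap : ¬ 2 ∣ Nat.card (N.map (MonoidHom.snd (Multiplicative (ZMod 2)) A5)) := fun h =>
    hodd (h.trans (Subgroup.card_map_dvd _ _))
  rcases (hN.map (MonoidHom.snd (Multiplicative (ZMod 2)) A5) (fun a => ⟨(1, a), rfl⟩)).eq_bot_or_eq_top with h | h
  · rw [eq_bot_iff]
    intro m hm
    have h2 : m.2 = 1 := by
      have : m.2 ∈ N.map (MonoidHom.snd (Multiplicative (ZMod 2)) A5) := ⟨m, hm, rfl⟩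
      rwa [h, Subgroup.mem_bot] at this
    have hsq : m ^ 2 = 1 := by rw [pow_two]; exact Prod.ext (sq_fst m) (by simp [h2])
    rw [Subgroup.mem_bot]
    by_contra hne
    apply hodd
    have ho : orderOf (⟨m, hm⟩ : N) = 2 :=
      orderOf_eq_prime (Subtype.ext hsq) (fun e => hne (congrArg Subtype.val e))
    exact (dvd_of_eq ho.symm).trans (orderOf_dvd_natCard _)
  · refine absurd ?_ hmap
    rw [h, Subgroup.card_top, nat_card_alternatingGroup, Nat.card_fin]
    decide

/-- Conjugacy classes of the involutions of the Sylow subgroup. -/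
theorem v_class' : IsConj (vM b1) (vM b2) ∧ IsConj (vM b1) (vM (0, 1, 1)) ∧
    IsConj (vM (1, 1, 0)) (vM (1, 0, 1)) ∧ IsConj (vM (1, 1, 0)) (vM (1, 1, 1)) := JOneRecog.JD.v_class

end Cfsg.Agent.WeakJ1
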