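import Cfsg.Agent.WeakJ1.Local
import Cfsg.Agent.S2119

/-!
The normaliser of the elementary abelian subgroup of order eight, and the decomposition of the centraliser of the
involution.
-/

set_option autoImplicit false
set_option maxRecDepth 100000
set_option synthInstance.maxSize 10000
set_option synthInstance.maxHeartbeats 1000000
set_option linter.all false

namespace Cfsg.Agent.WeakJ1

open JOneRecog

variable {G : Type*} [Group G]

theorem lin3_add (x y z a b : V3) : lin3 x y z (a + b) = lin3 x y z a + lin3 x y z b := by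
  have h : ∀ (p q : ZMod 2) (v : V3),
      (if p + q = 0 then 0 else v) = (if p = 0 then 0 else v) + (if q = 0 then 0 else v) := by
    decide +kernel
  simp only [lin3, Prod.fst_add, Prod.snd_add, h]
  abel

theorem lin3_basis (x y z : V3) : lin3 x y z e0 = x ∧ lin3 x y z b1 = y ∧ lin3 x y z b2 = z := by
  simp [lin3, e0, b1, b2]

theorem rho2_rho (w : V3) : rho2 (rho w) = w := (by decide +kernel : ∀ w : V3, rho2 (rho w) = w) w

theorem add_self' (w : V3) : w + w = 0 := (by decide +kernel : ∀ w : V3, w + w = 0) w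

/-- Elements centralising the groups `W` of all involutions attached to `t`. -/
def hsub (t : G) : Subgroup G := Subgroup.centralizer {x | ∃ v ∈ Wset t, x ∈ Wset v}

/-- Elements centralising the groups `W` of all involutions of `Y`. -/
def HE (Y : Subgroup G) : Subgroup G := Subgroup.centralizer {x | ∃ e ∈ Y, e ≠ 1 ∧ x ∈ Wset e}

theorem cent_Wsub {t c : G} (hc : ∀ x ∈ Wset t, c * x = x * c) :
    c ∈ Subgroup.centralizer (Wsub t : Set G) := by
  have hle : Wsub t ≤ Subgroup.centralizer ({c} : Set G) :=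
    (Subgroup.closure_le _).2 fun x hx => Subgroup.mem_centralizer_singleton_iff.2 (hc x hx).symm
  exact Subgroup.mem_centralizer_iff.2 fun x hx => Subgroup.mem_centralizer_singleton_iff.1 (hle hx)

theorem hsub_cent {t c : G} (hc : c ∈ hsub t) {v : G} (hv : v ∈ Wset t) :
    c ∈ Subgroup.centralizer (Wsub v : Set G) :=
  cent_Wsub fun x hx => (Subgroup.mem_centralizer_iff.1 hc x ⟨v, hv, hx⟩).symm

theorem hsub_le_cent (t : G) : hsub t ≤ Subgroup.centralizer ({t} : Set G) := fun _ hc =>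
  mem_cent.2 (Subgroup.mem_centralizer_iff.1 hc t ⟨t, wset_self t, wset_self t⟩).symm

theorem hsub_conj (g : G) {t c : G} (hc : c ∈ hsub t) : g * c * g⁻¹ ∈ hsub (g * t * g⁻¹) := by
  refine Subgroup.mem_centralizer_iff.2 ?_
  rintro x ⟨v, hv, hx⟩
  have h1 := wset_conj g⁻¹ hv
  rw [inv_inv, show g⁻¹ * (g * t * g⁻¹) * g = t by group] at h1
  have h2 := wset_conj g⁻¹ hx
  rw [inv_inv] at h2
  have := conj_comm (g := g) (Subgroup.mem_centralizer_iff.1 hc _ ⟨_, h1, h2⟩)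
  rwa [show g * (g⁻¹ * x * g) * g⁻¹ = x by group] at this

namespace Hyp

variable {t : G} (h : Hyp t) [Finite G]

local notation "NE" => Subgroup.normalizer (h.E : Set G)
local notation "XE" => Subgroup.centralizer (h.E : Set G)

/-- The action of the normaliser of `E` on vectors. -/
noncomputable def pmap (n : G) (w : V3) : V3 := Function.invFun h.sv (n * h.sv w * n⁻¹)

theorem sv_pmap {n : G} (hn : n ∈ NE) (w : V3) : h.sv (h.pmap n w) = n * h.sv w * n⁻¹ :=
  Function.invFun_eq (h.mem_E.1 ((Subgroup.mem_normalizer_iff.1 hn _).1 (h.sv_mem w)))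

theorem pmap_eq {n : G} (hn : n ∈ NE) {w w' : V3} (e : n * h.sv w * n⁻¹ = h.sv w') : h.pmap n w = w' :=
  h.sv_inj ((h.sv_pmap hn w).trans e)

theorem pmap_add {n : G} (hn : n ∈ NE) (a b : V3) : h.pmap n (a + b) = h.pmap n a + h.pmap n b :=
  h.pmap_eq hn (by rw [h.sv_add, h.sv_add, h.sv_pmap hn, h.sv_pmap hn]; group)

theorem pmap_mul {n m : G} (hn : n ∈ NE) (hm : m ∈ NE) (w : V3) :
    h.pmap (n * m) w = h.pmap n (h.pmap m w) :=
  h.pmap_eq (mul_mem hn hm) (by rw [h.sv_pmap hn, h.sv_pmap hm]; group)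

theorem pmap_one (w : V3) : h.pmap 1 w = w := h.pmap_eq (one_mem _) (by group)

theorem pmap_lin {n : G} (hn : n ∈ NE) (w : V3) :
    h.pmap n w = lin3 (h.pmap n e0) (h.pmap n b1) (h.pmap n b2) w := by
  obtain ⟨l0, l1, l2⟩ := lin3_basis (h.pmap n e0) (h.pmap n b1) (h.pmap n b2)
  refine basis_eq (f := h.pmap n) (h := lin3 _ _ _) (h.pmap_add hn) (lin3_add _ _ _) ?_ w
  simp only [basisV, List.all_cons, List.all_nil, Bool.and_eq_true, decide_eq_true_eq, and_true]
  exact ⟨l0.symm, l1.symm, l2.symm⟩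

theorem pmap_pow {n : G} (hn : n ∈ NE) : ∀ (i : ℕ) (w : V3), h.pmap (n ^ i) w = itV (h.pmap n) i w
  | 0, w => by rw [pow_zero, h.pmap_one]; rfl
  | i + 1, w => by rw [pow_succ', h.pmap_mul hn (pow_mem hn i), pmap_pow hn i w]; rfl

theorem pmap_eq_one_iff {n : G} (hn : n ∈ NE) : (∀ w, h.pmap n w = w) ↔ n ∈ XE := by
  constructor
  · intro hw
    refine Subgroup.mem_centralizer_iff.2 fun x hx => ?_
    obtain ⟨w, rfl⟩ := h.mem_E.1 hx
    have := h.sv_pmap hn w
    rw [hw] at this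
    exact eq_mul_inv_iff_mul_eq.1 this
  · intro hc w
    exact h.pmap_eq hn (conj_fix (Subgroup.mem_centralizer_iff.1 hc _ (h.sv_mem w)).symm)

theorem pmap_fix_iff {n : G} (hn : n ∈ NE) : h.pmap n e0 = e0 ↔ n * t = t * n := by
  constructor
  · intro e
    have := h.sv_pmap hn e0
    rw [e, h.sv_t] at this
    exact (eq_mul_inv_iff_mul_eq.1 this).symm
  · intro e
    exact h.pmap_eq hn (by rw [h.sv_t]; exact conj_fix e)

/-- The element of order three. -/
noncomputable def sig : G := h.emb (1, rA)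

theorem sig_mem_W : h.sig ∈ Wsub t := h.emb_mem _

theorem sig_conj (w : V3) : h.sig * h.sv w * h.sig⁻¹ = h.sv (rho w) := by
  rw [sig, sv, sv, ← map_inv, ← map_mul, ← map_mul, rA_act]

theorem sig_mem : h.sig ∈ NE := normalizer_of_le _ fun x hx => by
  obtain ⟨w, rfl⟩ := h.mem_E.1 hx
  exact h.mem_E.2 ⟨_, (h.sig_conj w).symm⟩

theorem pmap_sig (w : V3) : h.pmap h.sig w = rho w := h.pmap_eq h.sig_mem (h.sig_conj w)

theorem sig_cube : h.sig ^ 3 = 1 := by
  rw [sig, ← map_pow, (by decide +kernel : ((1, rA) : M0) ^ 3 = 1), map_one]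

/-- Elements of the normaliser fixing `t` preserve the four group. -/
theorem pres {n : G} (hn : n ∈ NE) (ht' : n * t = t * n) (i : Fin 2) : (h.pmap n (![b1, b2] i)).1 = 0 := by
  obtain ⟨a, b, hab⟩ := sq_prod i
  obtain ⟨a', ha'⟩ := h.exists_emb (wsub_normal_in (mem_cent.2 ht') (h.emb_mem a))
  obtain ⟨b', hb'⟩ := h.exists_emb (wsub_normal_in (mem_cent.2 ht') (h.emb_mem b))
  have he : vM (h.pmap n (![b1, b2] i)) = a' * a' * (b' * b') := h.emb_injective (by
    rw [show h.emb (vM (h.pmap n (![b1, b2] i))) = h.sv (h.pmap n (![b1, b2] i)) from rfl, h.sv_pmap hn, sv, ← hab]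
    simp only [map_mul, ha', hb']
    group)
  refine vM_fst _ ?_
  rw [he, Prod.fst_mul, sq_fst, sq_fst, one_mul]

/-- An element of the normaliser inducing an element of order seven. -/
theorem exists_f : ∃ f ∈ NE, valid (h.pmap f e0) (h.pmap f b1) (h.pmap f b2) = true := by
  haveI := Fact.mk (show Nat.Prime 7 by norm_num)
  let N := Subgroup.normalizer (h.E : Set G)
  letI : MulAction N G := MulAction.compHom G ((MulAut.conj : G →* MulAut G).comp N.subtype)
  have horb : MulAction.orbit N t = h.sv '' ({0}ᶜ : Set V3) := by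
    ext y
    constructor
    · rintro ⟨n, rfl⟩
      refine ⟨h.pmap n e0, ?_, ?_⟩
      · intro e
        have := h.sv_pmap n.2 e0
        rw [Set.mem_singleton_iff.1 e, h.sv_zero, h.sv_t, eq_comm, conj_eq_one_iff] at this
        exact h.t_ne this
      · rw [h.sv_pmap n.2, h.sv_t]
        rfl
    · rintro ⟨w, hw, rfl⟩
      obtain ⟨n, hn, e⟩ := h.exists_N (h.sv_mem w) (h.sv_conj hw)
      exact ⟨⟨n, hn⟩, e⟩
  have h7 : (MulAction.stabilizer N t).index = 7 := by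
    rw [MulAction.index_stabilizer, horb, Set.ncard_image_of_injective _ h.sv_inj, Set.ncard_compl,
      Set.ncard_singleton, Nat.card_eq_fintype_card]
    rfl
  obtain ⟨Q⟩ := (inferInstance : Nonempty (Sylow 7 N))
  obtain ⟨q, hq, hqs⟩ : ∃ q ∈ (Q : Subgroup N), q ∉ MulAction.stabilizer N t := by
    by_contra hcon
    push Not at hcon
    have := Subgroup.index_dvd_of_le (fun x hx => hcon x hx : (Q : Subgroup N) ≤ MulAction.stabilizer N t)
    rw [h7] at this
    exact Q.not_dvd_index this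
  have hmov : h.pmap q e0 ≠ e0 := fun e => hqs (conj_fix ((h.pmap_fix_iff q.2).1 e))
  obtain ⟨k, hk⟩ : ∃ k : ℕ, (q : N) ^ 7 ^ k = 1 := by
    obtain ⟨k, hk⟩ := Q.isPGroup' ⟨q, hq⟩
    exact ⟨k, congrArg Subtype.val hk⟩
  refine ⟨q, q.2, ?_⟩
  have hbij : Function.Bijective (h.pmap q) := Finite.injective_iff_bijective.1 fun a b e => by
    have h1 := h.sv_pmap q.2 a
    rw [e, h.sv_pmap q.2] at h1
    exact h.sv_inj (mul_left_cancel (mul_right_cancel h1)).symm
  let p : Equiv.Perm V3 := Equiv.ofBijective _ hbij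
  have hp : ∀ (i : ℕ) (w : V3), (p ^ i) w = h.pmap ((q : G) ^ i) w := by
    intro i
    induction i with
    | zero => intro w; rw [pow_zero, pow_zero, h.pmap_one]; rfl
    | succ i ih =>
      intro w
      rw [pow_succ', pow_succ', Equiv.Perm.mul_apply, ih, h.pmap_mul q.2 (pow_mem q.2 i)]
      rfl
  have hp7 : p ^ 7 = 1 := by
    have h1 : p ^ 7 ^ k = 1 := Equiv.ext fun w => by
      rw [hp, ← Subgroup.coe_pow, hk, Subgroup.coe_one, h.pmap_one]
      rfl
    have h2 := orderOf_dvd_natCard p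
    rw [Nat.card_perm, Nat.card_eq_fintype_card, show Fintype.card V3 = 8 from rfl] at h2
    obtain ⟨j, -, hj⟩ := (Nat.dvd_prime_pow (show Nat.Prime 7 by norm_num)).1 (orderOf_dvd_of_pow_eq_one h1)
    rw [hj] at h2
    have hj1 : j ≤ 1 := by
      by_contra hj2
      have : 7 ^ 2 ∣ Nat.factorial 8 := (pow_dvd_pow 7 (by omega : 2 ≤ j)).trans h2
      norm_num [Nat.factorial] at this
    refine orderOf_dvd_iff_pow_eq_one.1 ?_
    rw [hj]
    simpa using pow_dvd_pow 7 hj1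
  simp only [valid, Bool.and_eq_true, decide_eq_true_eq, List.all_eq_true]
  refine ⟨hmov, fun w _ => ?_⟩
  rw [← funext (h.pmap_lin q.2), ← h.pmap_pow q.2, ← hp, hp7]
  rfl

theorem word_eq {f n : G} (hf : f ∈ NE) (hn : n ∈ NE) (i j : ℕ) (w : V3) :
    h.pmap (f ^ i * n * f ^ j) w = itV (h.pmap f) i (h.pmap n (itV (h.pmap f) j w)) := by
  rw [h.pmap_mul (mul_mem (pow_mem hf i) hn) (pow_mem hf j), h.pmap_mul (pow_mem hf i) hn, h.pmap_pow hf,
    h.pmap_pow hf]

theorem words_ok {f n : G} (hf : f ∈ NE) (hn : n ∈ NE) :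
    wordsOk (lin3 (h.pmap f e0) (h.pmap f b1) (h.pmap f b2)) (h.pmap n) = true := by
  rw [← funext (h.pmap_lin hf)]
  simp only [wordsOk, List.all_eq_true, Bool.or_eq_true, Bool.not_eq_true', decide_eq_false_iff_not,
    Bool.and_eq_true, decide_eq_true_eq]
  intro i _ j _
  by_cases e : itV (h.pmap f) i.val (h.pmap n (itV (h.pmap f) j.val e0)) = e0
  · refine Or.inr ?_
    have hm : f ^ i.val * n * f ^ j.val ∈ NE := mul_mem (mul_mem (pow_mem hf _) hn) (pow_mem hf _)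
    rw [← h.word_eq hf hn] at e
    rw [← h.word_eq hf hn, ← h.word_eq hf hn]
    exact ⟨h.pres hm ((h.pmap_fix_iff hm).1 e) 0, h.pres hm ((h.pmap_fix_iff hm).1 e) 1⟩
  · exact Or.inl e

/-- Elements of the normaliser fixing `t` act as powers of the element of order three. -/
theorem stab_act {n : G} (hn : n ∈ NE) (ht' : n * t = t * n) :
    ∃ i : Fin 3, ∀ w, h.pmap n w = h.pmap (h.sig ^ i.val) w := by
  obtain ⟨f, hf, hv⟩ := h.exists_f
  have he : h.pmap n e0 = e0 := (h.pmap_fix_iff hn).2 ht'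
  have hfun : h.pmap n = lin3 e0 (h.pmap n b1) (h.pmap n b2) := funext fun w => by
    conv_lhs => rw [h.pmap_lin hn, he]
  have hw := h.words_ok hf hn
  rw [hfun] at hw
  have hne : ∀ a, a ≠ 0 → h.pmap n a ≠ 0 := fun a ha e => by
    have := h.sv_pmap hn a
    rw [e, h.sv_zero, eq_comm, conj_eq_one_iff] at this
    exact h.sv_ne ha this
  have hne2 : h.pmap n b1 ≠ h.pmap n b2 := fun e => by
    have h1 := h.sv_pmap hn b1
    rw [e, h.sv_pmap hn] at h1
    exact absurd (h.sv_inj (mul_left_cancel (mul_right_cancel h1))) (by decide +kernel)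
  have key : ∀ i : ℕ, itV rho i b1 = h.pmap n b1 → itV rho i b2 = h.pmap n b2 →
      ∀ w, h.pmap n w = h.pmap (h.sig ^ i) w := by
    intro i e1 e2 w
    have hs := pow_mem h.sig_mem i
    rw [h.pmap_lin hn, h.pmap_lin hs w, he, h.pmap_pow h.sig_mem i b1, h.pmap_pow h.sig_mem i b2,
      h.pmap_pow h.sig_mem i e0, funext h.pmap_sig, e1, e2]
    congr 1
    have : ∀ i : ℕ, itV rho i e0 = e0 := fun i => by
      induction i with
      | zero => rfl
      | succ i ih => show rho (itV rho i e0) = e0; rw [ih, rho_e0]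
    rw [this]
  rcases stab_small _ _ _ hv _ _ (h.pres hn ht' 0) (h.pres hn ht' 1) (hne _ (by decide +kernel))
    (hne _ (by decide +kernel)) hne2 hw with ⟨x1, x2⟩ | ⟨x1, x2⟩ | ⟨x1, x2⟩
  · exact ⟨0, key 0 x1.symm x2.symm⟩
  · exact ⟨1, key 1 x1.symm x2.symm⟩
  · exact ⟨2, key 2 x1.symm x2.symm⟩

theorem stab_split {n : G} (hn : n ∈ NE) (ht' : n * t = t * n) : ∃ i : ℕ, (h.sig ^ i)⁻¹ * n ∈ XE := by
  obtain ⟨i, hi⟩ := h.stab_act hn ht'
  have hs := inv_mem (pow_mem h.sig_mem i.val)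
  refine ⟨i, (h.pmap_eq_one_iff (mul_mem hs hn)).1 fun w => ?_⟩
  rw [h.pmap_mul hs hn, hi, ← h.pmap_mul hs (pow_mem h.sig_mem _), inv_mul_cancel, h.pmap_one]

include h in
/-- The centraliser of `t` is `W` times the centraliser of `E`. -/
theorem cent_t_split {x : G} (hx : x * t = t * x) :
    ∃ w ∈ Wsub t, ∃ c ∈ XE, x = w * c := by
  have hY : h.E.map (MulAut.conj x).toMonoidHom ≤ Wsub t :=
    Subgroup.map_le_iff_le_comap.2 fun e he => wsub_normal_in (mem_cent.2 hx) (h.E_le_W he)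
  obtain ⟨w, hw, hY'⟩ := h.exists_conj_Y hY
    (by rw [Subgroup.card_map_of_injective (MulAut.conj x).injective, h.card_E])
  have hn : w⁻¹ * x ∈ NE := normalizer_of_le _ fun e he => by
    have := (hY' _).1 ⟨e, he, rfl⟩
    rwa [show w⁻¹ * x * e * (w⁻¹ * x)⁻¹ = w⁻¹ * (x * e * x⁻¹) * w by group]
  have hwt : w⁻¹ * t = t * w⁻¹ := mem_cent.1 (wsub_le_cent t (inv_mem hw))
  obtain ⟨i, hi⟩ := h.stab_split hn
    (by rw [mul_assoc, hx, ← mul_assoc, hwt, mul_assoc])
  exact ⟨w * h.sig ^ i, mul_mem hw (pow_mem h.sig_mem_W i), _, hi, by group⟩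

theorem S_cent_E {s : G} (hs : s ∈ (h.S : Subgroup G)) : s ∈ XE := by
  have hn := h.S_le_N hs
  obtain ⟨i, hi⟩ := h.stab_split hn (mem_cent.1 (h.S_le_C hs))
  obtain ⟨k, hk⟩ : ∃ k : ℕ, s ^ 2 ^ k = 1 := by
    obtain ⟨k, hk⟩ := h.S.isPGroup' ⟨s, hs⟩
    exact ⟨k, congrArg Subtype.val hk⟩
  have hs2 : ∀ w, h.pmap s w = h.pmap (h.sig ^ i) w := fun w => by
    conv_lhs => rw [show s = h.sig ^ i * ((h.sig ^ i)⁻¹ * s) by group,
      h.pmap_mul (pow_mem h.sig_mem i) (mul_mem (inv_mem (pow_mem h.sig_mem i)) hn),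
      (h.pmap_eq_one_iff (mul_mem (inv_mem (pow_mem h.sig_mem i)) hn)).2 hi]
  have h1 : ∀ w, h.pmap (h.sig ^ (i * 2 ^ k)) w = w := fun w => by
    have e : ∀ (m : ℕ) w, h.pmap (s ^ m) w = h.pmap (h.sig ^ (i * m)) w := by
      intro m
      induction m with
      | zero => intro w; rw [pow_zero, Nat.mul_zero, pow_zero]
      | succ m ih =>
        intro w
        rw [pow_succ', h.pmap_mul hn (pow_mem hn m), ih, hs2, Nat.mul_succ, add_comm, pow_add,
          h.pmap_mul (pow_mem h.sig_mem _) (pow_mem h.sig_mem _)]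
    rw [← e, hk, h.pmap_one]
  refine (h.pmap_eq_one_iff hn).1 fun w => ?_
  have h3 : ∀ m : ℕ, h.sig ^ m = h.sig ^ (m % 3) := fun m => by
    conv_lhs => rw [← Nat.div_add_mod m 3, pow_add, pow_mul, h.sig_cube, one_pow, one_mul]
  rw [hs2, h3]
  have hlt := Nat.mod_lt i (show 3 > 0 by norm_num)
  have hmod : i * 2 ^ k % 3 = 0 → i % 3 = 0 := fun e => by
    have h32 : Nat.Coprime 3 (2 ^ k) := Nat.Coprime.pow_right _ (by norm_num)
    exact Nat.mod_eq_zero_of_dvd (h32.dvd_of_dvd_mul_right (Nat.dvd_of_mod_eq_zero e))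
  by_cases hi0 : i % 3 = 0
  · rw [hi0, pow_zero, h.pmap_one]
  exfalso
  have hne := fun e => hi0 (hmod e)
  have hb := h1 b1
  rw [h3, h.pmap_pow h.sig_mem, funext h.pmap_sig] at hb
  have hlt' := Nat.mod_lt (i * 2 ^ k) (show 3 > 0 by norm_num)
  rcases (show i * 2 ^ k % 3 = 1 ∨ i * 2 ^ k % 3 = 2 by omega) with e | e <;> rw [e] at hb
  · exact absurd hb (by decide +kernel)
  · exact absurd hb (by decide +kernel)

include h in
omit [Finite G] in
theorem t_cent_W : t ∈ Subgroup.centralizer (Wsub t : Set G) :=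
  Subgroup.mem_centralizer_iff.2 fun x hx => mem_cent.1 (wsub_le_cent t hx)

include h in
omit [Finite G] in
theorem cent_W_inter {x : G} (hx : x ∈ Wsub t) (hc : x ∈ Subgroup.centralizer (Wsub t : Set G)) :
    x = 1 ∨ x = t := by
  obtain ⟨m, rfl⟩ := h.exists_emb hx
  rcases center_M0 m (fun y => h.emb_injective
    (by rw [map_mul, map_mul]; exact (Subgroup.mem_centralizer_iff.1 hc _ (h.emb_mem y)).symm)) with rfl | rfl
  · exact Or.inl (map_one _)
  · exact Or.inr h.emb_zM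

/-- The centraliser of `E` is `E` times the centraliser of `W`. -/
theorem cent_E_split {x : G} (hx : x ∈ XE) :
    ∃ e ∈ h.E, ∃ c ∈ Subgroup.centralizer (Wsub t : Set G), x = e * c := by
  have hxt : x * t = t * x := (Subgroup.mem_centralizer_iff.1 hx t h.t_mem_E).symm
  let cj : M0 →* ↥(Wsub t) := ((MulAut.conj x).toMonoidHom.comp h.emb).codRestrict _
    fun m => wsub_normal_in (mem_cent.2 hxt) (h.emb_mem m)
  let φ : M0 →* M0 := h.iso.some.toMonoidHom.comp cj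
  have hφ : ∀ m, h.emb (φ m) = x * h.emb m * x⁻¹ := fun m =>
    congrArg Subtype.val (h.iso.some.symm_apply_apply (cj m))
  have hinj : Function.Injective φ := fun a b e => by
    have h1 := hφ a
    rw [e, hφ b] at h1
    exact h.emb_injective (mul_left_cancel (mul_right_cancel h1)).symm
  let inr : A5 →* M0 := MonoidHom.inr _ _
  have hfst : ∀ a, (φ (inr a)).1 = 1 := hom_A5_trivial ((MonoidHom.fst _ _).comp (φ.comp inr))
  let ψ : A5 →* A5 := (MonoidHom.snd _ _).comp (φ.comp inr)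
  have hψinj : Function.Injective ψ := fun a b e =>
    congrArg Prod.snd (hinj (Prod.ext ((hfst a).trans (hfst b).symm) e))
  obtain ⟨σ, hσ⟩ := (S2119.result 5 (by norm_num) (by norm_num)).2
    (MulEquiv.ofBijective ψ (Finite.injective_iff_bijective.1 hψinj))
  have hσ' : ∀ a : A5, σ * a.1 * σ⁻¹ = (φ (inr a)).2.1 := fun a => by
    have := congrArg (fun f : MulAut A5 => (f a).1) hσ
    rw [MulAut.conjNormal_apply] at this
    exact this
  have hfix : ∀ v : V3, v.1 = 0 → σ * (vM v).2.1 = (vM v).2.1 * σ := fun v hv => by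
    have e : inr (vM v).2 = vM v := Prod.ext (by simp [inr, vM, hv]) rfl
    have h1 := hσ' (vM v).2
    rw [e] at h1
    have h2 : φ (vM v) = vM v := h.emb_injective (by
      rw [hφ]; exact conj_fix (Subgroup.mem_centralizer_iff.1 hx _ (h.sv_mem v)).symm)
    rw [h2] at h1
    exact (mul_inv_eq_iff_eq_mul.1 h1)
  have e1 : (vM b1).2 = vA := by decide +kernel
  have e2 : (vM b2).2 = uA := by decide +kernel
  obtain ⟨w, hw0, hw⟩ := cent_vu' σ (e1 ▸ hfix b1 rfl) (e2 ▸ hfix b2 rfl)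
  refine ⟨h.sv w, h.sv_mem w, (h.sv w)⁻¹ * x, Subgroup.mem_centralizer_iff.2 fun y hy => ?_, by group⟩
  obtain ⟨m, rfl⟩ := h.exists_emb hy
  have hm : m = ((m.1, 1) : M0) * inr m.2 := Prod.ext (by simp [inr]) (by simp [inr])
  have hA : φ (inr m.2) = vM w * inr m.2 * (vM w)⁻¹ := by
    refine Prod.ext ?_ (Subtype.ext ?_)
    · rw [hfst]; simp [inr]
    · rw [← hσ', ← hw]; rfl
  have hC : φ (m.1, 1) = vM w * (m.1, 1) * (vM w)⁻¹ := by
    rcases center_M0 (m.1, 1) (fun y => Prod.ext (mul_comm _ _) (by simp)) with e | e <;> rw [e]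
    · rw [map_one, mul_one, mul_inv_cancel]
    · rw [← zM_central, mul_inv_cancel_right]
      exact h.emb_injective (by rw [hφ, h.emb_zM]; exact conj_fix hxt)
  have hall : x * h.emb m * x⁻¹ = h.sv w * h.emb m * (h.sv w)⁻¹ := by
    rw [← hφ, sv, ← map_inv, ← map_mul, ← map_mul]
    refine congrArg h.emb ?_
    rw [hm, map_mul, hA, hC]
    group
  calc h.emb m * ((h.sv w)⁻¹ * x) = (h.sv w)⁻¹ * (h.sv w * h.emb m * (h.sv w)⁻¹) * x := by group
    _ = (h.sv w)⁻¹ * (x * h.emb m * x⁻¹) * x := by rw [hall]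
    _ = (h.sv w)⁻¹ * x * h.emb m := by group

include h in
/-- The same for every subgroup of order eight of `W`. -/
theorem cent_Y_split {Y : Subgroup G} (hY : Y ≤ Wsub t) (h8 : Nat.card Y = 8) {x : G}
    (hx : x ∈ Subgroup.centralizer (Y : Set G)) :
    ∃ e ∈ Y, ∃ c ∈ Subgroup.centralizer (Wsub t : Set G), x = e * c := by
  obtain ⟨w, hw, hY'⟩ := h.exists_conj_Y hY h8
  have hx' : w⁻¹ * x * w ∈ XE := Subgroup.mem_centralizer_iff.2 fun e he => by
    have he' : w * e * w⁻¹ ∈ Y := (hY' _).2 (by rwa [show w⁻¹ * (w * e * w⁻¹) * w = e by group])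
    have := conj_comm (g := w⁻¹) (Subgroup.mem_centralizer_iff.1 hx _ he')
    rwa [inv_inv, show w⁻¹ * (w * e * w⁻¹) * w = e by group] at this
  obtain ⟨e, he, c, hc, hxe⟩ := h.cent_E_split hx'
  refine ⟨w * e * w⁻¹, (hY' _).2 (by rwa [show w⁻¹ * (w * e * w⁻¹) * w = e by group]), c, hc, ?_⟩
  have hwc : w * c = c * w := Subgroup.mem_centralizer_iff.1 hc w hw
  calc x = w * (w⁻¹ * x * w) * w⁻¹ := by group
    _ = w * e * (c * w⁻¹) := by rw [hxe]; group
    _ = w * e * (w⁻¹ * c) := by rw [(Commute.inv_left hwc : w⁻¹ * c = c * w⁻¹)]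
    _ = w * e * w⁻¹ * c := by group

/-- The decomposition at every involution of `E`. -/
theorem cent_E_at {x e : G} (hx : x ∈ XE) (he : e ∈ h.E) (he1 : e ≠ 1) :
    ∃ ε ∈ h.E, ∃ c ∈ Subgroup.centralizer (Wsub e : Set G), x = ε * c :=
  (h.of_wset (h.Y_wset h.E_le_W h.card_E he he1)).cent_Y_split
    (h.Y_le_Wsub h.E_le_W h.card_E he he1) h.card_E hx

theorem E_le_X : h.E ≤ XE := fun x hx =>
  Subgroup.mem_centralizer_iff.2 fun y hy => h.E_comm hy hx

theorem commutator_X {x y e : G} (hx : x ∈ XE) (hy : y ∈ XE) (he : e ∈ h.E) (he1 : e ≠ 1) :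
    x * y * x⁻¹ * y⁻¹ ∈ Subgroup.centralizer (Wsub e : Set G) := by
  obtain ⟨a, ha, c, hc, rfl⟩ := h.cent_E_at hx he he1
  obtain ⟨b, hb, d, hd, rfl⟩ := h.cent_E_at hy he he1
  have hcX : c ∈ XE := (Subgroup.mul_mem_cancel_left _ (h.E_le_X ha)).1 hx
  have hdX : d ∈ XE := (Subgroup.mul_mem_cancel_left _ (h.E_le_X hb)).1 hy
  have e1 : c * b = b * c := (Subgroup.mem_centralizer_iff.1 hcX b hb).symm
  have e2 : a * d = d * a := Subgroup.mem_centralizer_iff.1 hdX a ha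
  have e3 : a * b = b * a := h.E_comm ha hb
  have e4 : c * d * c⁻¹ * a⁻¹ = a⁻¹ * (c * d * c⁻¹) :=
    (Commute.inv_right ((Subgroup.mem_centralizer_iff.1
      (mul_mem (mul_mem hcX hdX) (inv_mem hcX)) a ha).symm) : _)
  have : a * c * (b * d) * (a * c)⁻¹ * (b * d)⁻¹ = c * d * c⁻¹ * d⁻¹ := by
    calc a * c * (b * d) * (a * c)⁻¹ * (b * d)⁻¹ = a * (c * b) * d * c⁻¹ * a⁻¹ * d⁻¹ * b⁻¹ := by group
      _ = a * b * (c * d * c⁻¹ * a⁻¹) * d⁻¹ * b⁻¹ := by rw [e1]; group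
      _ = a * b * a⁻¹ * (c * d * c⁻¹ * d⁻¹) * b⁻¹ := by rw [e4]; group
      _ = b * (c * d * c⁻¹ * d⁻¹) * b⁻¹ := by rw [e3]; group
      _ = c * d * c⁻¹ * d⁻¹ := conj_fix (Subgroup.mem_centralizer_iff.1
        (mul_mem (mul_mem (mul_mem hcX hdX) (inv_mem hcX)) (inv_mem hdX)) b hb)
  rw [this]
  exact mul_mem (mul_mem (mul_mem hc hd) (inv_mem hc)) (inv_mem hd)

theorem comm_X {x y : G} (hx : x ∈ XE) (hy : y ∈ XE) (hxy : x * y * x⁻¹ * y⁻¹ ∈ h.E) : x * y = y * x := by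
  have h1 := h.commutator_X hx hy h.t_mem_E h.t_ne
  have hne : h.sv b1 ≠ 1 := h.sv_ne (by decide +kernel)
  have h2 := h.commutator_X hx hy (h.sv_mem b1) hne
  rcases h.cent_W_inter (h.E_le_W hxy) h1 with e | e
  · rw [mul_inv_eq_one, mul_inv_eq_iff_eq_mul] at e
    exact e
  · exfalso
    rw [e] at h2
    rcases (h.of_wset (h.Y_wset h.E_le_W h.card_E (h.sv_mem b1) hne)).cent_W_inter
      (h.Y_le_Wsub h.E_le_W h.card_E (h.sv_mem b1) hne h.t_mem_E) h2 with e' | e'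
    · exact h.t_ne e'
    · exact absurd (h.sv_inj (h.sv_t.trans e')) (by decide +kernel)

/-- Elements of the normaliser fixing the centraliser of `E` modulo `E`. -/
def Kx (n : G) : Prop := n ∈ NE ∧ ∀ x ∈ XE, n * x * n⁻¹ * x⁻¹ ∈ h.E

theorem N_X {n x : G} (hn : n ∈ NE) (hx : x ∈ XE) : n * x * n⁻¹ ∈ XE :=
  Subgroup.mem_centralizer_iff.2 fun e he => by
    have := conj_comm (g := n) (Subgroup.mem_centralizer_iff.1 hx _
      ((Subgroup.mem_normalizer_iff.1 (inv_mem hn) e).1 he))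
    rwa [inv_inv, show n * (n⁻¹ * e * n) * n⁻¹ = e by group] at this

theorem Kx_one : h.Kx 1 := ⟨one_mem _, fun x _ => by
  rw [one_mul, inv_one, mul_one, mul_inv_cancel]; exact one_mem _⟩

theorem Kx_mul {n m : G} (hn : h.Kx n) (hm : h.Kx m) : h.Kx (n * m) := ⟨mul_mem hn.1 hm.1, fun x hx => by
  rw [show n * m * x * (n * m)⁻¹ * x⁻¹ = n * (m * x * m⁻¹ * x⁻¹) * n⁻¹ * (n * x * n⁻¹ * x⁻¹) by group]
  exact mul_mem ((Subgroup.mem_normalizer_iff.1 hn.1 _).1 (hm.2 x hx)) (hn.2 x hx)⟩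

theorem Kx_pow {n : G} (hn : h.Kx n) : ∀ i : ℕ, h.Kx (n ^ i)
  | 0 => by rw [pow_zero]; exact h.Kx_one
  | i + 1 => by rw [pow_succ']; exact h.Kx_mul hn (Kx_pow hn i)

theorem Kx_conj {n f : G} (hn : h.Kx n) (hf : f ∈ NE) : h.Kx (f * n * f⁻¹) :=
  ⟨mul_mem (mul_mem hf hn.1) (inv_mem hf), fun x hx => by
    have hy := h.N_X (inv_mem hf) hx
    rw [inv_inv] at hy
    have := (Subgroup.mem_normalizer_iff.1 hf _).1 (hn.2 _ hy)
    rwa [show f * n * f⁻¹ * x * (f * n * f⁻¹)⁻¹ * x⁻¹ =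
      f * (n * (f⁻¹ * x * f) * n⁻¹ * (f⁻¹ * x * f)⁻¹) * f⁻¹ by group]⟩

theorem Kx_sig : h.Kx h.sig := ⟨h.sig_mem, fun x hx => by
  obtain ⟨e, he, c, hc, rfl⟩ := h.cent_E_split hx
  have hsc : h.sig * c = c * h.sig := Subgroup.mem_centralizer_iff.1 hc _ h.sig_mem_W
  rw [show h.sig * (e * c) * h.sig⁻¹ * (e * c)⁻¹ =
    h.sig * e * h.sig⁻¹ * (h.sig * c * h.sig⁻¹ * c⁻¹) * e⁻¹ by group, hsc, mul_inv_cancel_right,
    mul_inv_cancel, mul_one]
  exact mul_mem ((Subgroup.mem_normalizer_iff.1 h.sig_mem _).1 he) (inv_mem he)⟩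

theorem Kx_same {n m : G} (hn : h.Kx n) (hm : h.Kx m) (e : ∀ w, h.pmap n w = h.pmap m w) {x : G}
    (hx : x ∈ XE) : n * x * n⁻¹ = m * x * m⁻¹ := by
  have hmi : h.Kx m⁻¹ := ⟨inv_mem hm.1, fun y hy => by
    have hy' := h.N_X (inv_mem hm.1) hy
    rw [inv_inv] at hy' ⊢
    have := inv_mem (hm.2 _ hy')
    rwa [show (m * (m⁻¹ * y * m) * m⁻¹ * (m⁻¹ * y * m)⁻¹)⁻¹ = m⁻¹ * y * m * y⁻¹ by group] at this⟩
  have hd := h.Kx_mul hmi hn
  have hdX : m⁻¹ * n ∈ XE := (h.pmap_eq_one_iff hd.1).1 fun w => by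
    rw [h.pmap_mul hmi.1 hn.1, e, ← h.pmap_mul hmi.1 hm.1, inv_mul_cancel, h.pmap_one]
  have hc := h.comm_X hdX hx (hd.2 x hx)
  calc n * x * n⁻¹ = m * ((m⁻¹ * n) * x) * n⁻¹ := by group
    _ = m * (x * (m⁻¹ * n)) * n⁻¹ := by rw [hc]
    _ = m * x * m⁻¹ := by group

include h in
omit [Finite G] in
theorem W_le_normalClosure : Wsub t ≤ Subgroup.normalClosure ({t} : Set G) :=
  (Subgroup.closure_le _).2 fun x hx => by
    obtain ⟨g, rfl, -⟩ := hx
    exact Subgroup.normalClosure_normal.conj_mem t (Subgroup.subset_normalClosure (Set.mem_singleton t)) g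

set_option maxHeartbeats 400000 in
/-- The element of order seven acting trivially on the centraliser of `E` modulo `E`. -/
theorem exists_g : ∃ g, g ∈ Subgroup.normalClosure ({t} : Set G) ∧ h.Kx g ∧
    valid (h.pmap g e0) (h.pmap g b1) (h.pmap g b2) = true ∧
    ∃ k : Fin 7, k ≠ 0 ∧ ∀ w, h.pmap (h.sig * g * h.sig⁻¹) w = h.pmap (g ^ k.val) w := by
  obtain ⟨f, hf, hv⟩ := h.exists_f
  have hw := h.words_ok hf h.sig_mem
  rw [funext h.pmap_sig] at hw
  obtain ⟨hval, k, hk0, hk⟩ := mix_valid _ _ _ hv hw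
  let g := h.sig * (f * h.sig⁻¹ * f⁻¹)
  have hsi : h.Kx h.sig⁻¹ := by
    rw [show h.sig⁻¹ = h.sig ^ 2 from inv_eq_of_mul_eq_one_right (by rw [← pow_succ', h.sig_cube])]
    exact h.Kx_pow h.Kx_sig 2
  have hg : h.Kx g := h.Kx_mul h.Kx_sig (h.Kx_conj hsi hf)
  have hp : ∀ w, h.pmap g w = mixV (lin3 (h.pmap f e0) (h.pmap f b1) (h.pmap f b2)) w := fun w => by
    have e6 : ∀ w, h.pmap f⁻¹ w = itV (h.pmap f) 6 w := fun w => by
      have h7 : ∀ w, h.pmap (f ^ 7) w = w := fun w => by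
        refine basis_eq (f := h.pmap (f ^ 7)) (h := id) (h.pmap_add (pow_mem hf 7)) (fun _ _ => rfl) ?_ w
        simp only [valid, Bool.and_eq_true, List.all_eq_true, decide_eq_true_eq] at hv
        simp only [List.all_eq_true, decide_eq_true_eq, id]
        intro v hv'
        rw [h.pmap_pow hf, funext (h.pmap_lin hf), hv.2 v hv']
      rw [← h.pmap_pow hf, show f ^ 6 = f⁻¹ * f ^ 7 by group, h.pmap_mul (inv_mem hf) (pow_mem hf 7), h7]
    have es : ∀ w, h.pmap h.sig⁻¹ w = rho2 w := fun w => by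
      conv_rhs => rw [← h.pmap_one w, ← mul_inv_cancel h.sig, h.pmap_mul h.sig_mem (inv_mem h.sig_mem),
        h.pmap_sig]
      exact (rho2_rho _).symm
    rw [← funext (h.pmap_lin hf), mixV, h.pmap_mul h.sig_mem (mul_mem (mul_mem hf (inv_mem h.sig_mem)) (inv_mem hf)),
      h.pmap_mul (mul_mem hf (inv_mem h.sig_mem)) (inv_mem hf), h.pmap_mul hf (inv_mem h.sig_mem), h.pmap_sig,
      es, e6]
  refine ⟨g, mul_mem (h.W_le_normalClosure h.sig_mem_W) (Subgroup.normalClosure_normal.conj_mem _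
    (inv_mem (h.W_le_normalClosure h.sig_mem_W)) f), hg, by rw [hp, hp, hp]; exact hval, k, hk0, fun w => ?_⟩
  have hlin : h.pmap g = lin3 (mixV (lin3 (h.pmap f e0) (h.pmap f b1) (h.pmap f b2)) e0)
      (mixV (lin3 (h.pmap f e0) (h.pmap f b1) (h.pmap f b2)) b1)
      (mixV (lin3 (h.pmap f e0) (h.pmap f b1) (h.pmap f b2)) b2) := funext fun w => by
    rw [h.pmap_lin hg.1, hp, hp, hp]
  have hsiv : ∀ w, h.pmap h.sig⁻¹ w = rho2 w := fun w => by
    have e1 : rho (h.pmap h.sig⁻¹ w) = w := by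
      rw [← h.pmap_sig, ← h.pmap_mul h.sig_mem (inv_mem h.sig_mem), mul_inv_cancel, h.pmap_one]
    calc h.pmap h.sig⁻¹ w = rho2 (rho (h.pmap h.sig⁻¹ w)) := (rho2_rho _).symm
      _ = rho2 w := by rw [e1]
  refine basis_eq (f := h.pmap (h.sig * g * h.sig⁻¹)) (h := h.pmap (g ^ k.val))
    (h.pmap_add (mul_mem (mul_mem h.sig_mem hg.1) (inv_mem h.sig_mem))) (h.pmap_add (pow_mem hg.1 _)) ?_ w
  simp only [List.all_eq_true, decide_eq_true_eq] at hk ⊢
  intro v hv'
  rw [h.pmap_mul (mul_mem h.sig_mem hg.1) (inv_mem h.sig_mem), h.pmap_mul h.sig_mem hg.1, h.pmap_sig,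
    h.pmap_pow hg.1, hlin, hsiv]
  exact hk v hv'

/-- The centraliser of `E` is `E` times the elements centralising all seven groups `W`. -/
theorem cent_E_HE {x : G} (hx : x ∈ XE) : ∃ e ∈ h.E, ∃ c ∈ HE h.E, x = e * c := by
  obtain ⟨g, -, hg, hv, k, hk0, hk⟩ := h.exists_g
  obtain ⟨hfpf, horb⟩ := valid_orbit _ _ _ hv
  rw [← funext (h.pmap_lin hg.1)] at hfpf horb
  obtain ⟨d, hd⟩ := h.mem_E.1 (hg.2 x hx)
  have hinj : Function.Injective fun w => h.pmap g w + w := fun a b e => by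
    by_contra hab
    have hz : h.pmap g (a + b) + (a + b) = 0 := by
      rw [h.pmap_add hg.1, add_add_add_comm, show h.pmap g a + a = h.pmap g b + b from e, add_self']
    refine hfpf (a + b) (fun e0' => hab ?_) ?_
    · rw [← add_zero a, ← add_self' b, ← add_assoc, e0', zero_add]
    · calc h.pmap g (a + b) = h.pmap g (a + b) + (a + b) + (a + b) := by rw [add_assoc, add_self', add_zero]
        _ = a + b := by rw [hz, zero_add]
  obtain ⟨ε, hε : h.pmap g ε + ε = d⟩ := Finite.surjective_of_injective hinj d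
  let y := h.sv ε * x
  have hyX : y ∈ XE := mul_mem (h.E_le_X (h.sv_mem ε)) hx
  have hgy : g * y * g⁻¹ = y := by
    calc g * (h.sv ε * x) * g⁻¹ = g * h.sv ε * g⁻¹ * (g * x * g⁻¹ * x⁻¹) * x := by group
      _ = h.sv (h.pmap g ε + d) * x := by rw [← hd, h.sv_add, h.sv_pmap hg.1]
      _ = h.sv ε * x := by rw [← hε, ← add_assoc, add_self', zero_add]
  have hgpow : ∀ i : ℕ, g ^ i * y * (g ^ i)⁻¹ = y := fun i => conj_fix
    ((show Commute g y from mul_inv_eq_iff_eq_mul.1 hgy).pow_left i)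
  obtain ⟨d', hd'⟩ := h.mem_E.1 (h.Kx_sig.2 y hyX)
  have hσy : h.sig * y * h.sig⁻¹ = h.sv d' * y := by rw [hd']; group
  have hd0 : d' = 0 := by
    by_contra hne
    have hsi : h.Kx h.sig⁻¹ := by
      rw [show h.sig⁻¹ = h.sig ^ 2 from inv_eq_of_mul_eq_one_right (by rw [← pow_succ', h.sig_cube])]
      exact h.Kx_pow h.Kx_sig 2
    have hKm : h.Kx (h.sig * g * h.sig⁻¹) := h.Kx_mul (h.Kx_mul h.Kx_sig hg) hsi
    have h1 := h.Kx_same hKm (h.Kx_pow hg k.val) hk (h.N_X h.sig_mem hyX)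
    rw [show h.sig * g * h.sig⁻¹ * (h.sig * y * h.sig⁻¹) * (h.sig * g * h.sig⁻¹)⁻¹ =
      h.sig * (g * y * g⁻¹) * h.sig⁻¹ by group, hgy, hσy,
      show g ^ k.val * (h.sv d' * y) * (g ^ k.val)⁻¹ =
        g ^ k.val * h.sv d' * (g ^ k.val)⁻¹ * (g ^ k.val * y * (g ^ k.val)⁻¹) by group, hgpow,
      mul_left_inj, ← h.sv_pmap (pow_mem hg.1 _)] at h1
    have hfix : h.pmap (g ^ k.val) d' = d' := (h.sv_inj h1).symm
    have hmul : ∀ j : ℕ, h.pmap (g ^ (k.val * j)) d' = d' := fun j => by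
      induction j with
      | zero => rw [mul_zero, pow_zero, h.pmap_one]
      | succ j ih => rw [Nat.mul_succ, pow_add, h.pmap_mul (pow_mem hg.1 _) (pow_mem hg.1 _), hfix, ih]
    obtain ⟨j, hj⟩ := (by decide : ∀ k : Fin 7, k ≠ 0 → ∃ j : Fin 7, k.val * j.val % 7 = 1) k hk0
    have h7 : ∀ w, h.pmap (g ^ 7) w = w := fun w => by
      refine basis_eq (f := h.pmap (g ^ 7)) (h := id) (h.pmap_add (pow_mem hg.1 7)) (fun _ _ => rfl) ?_ w
      simp only [valid, Bool.and_eq_true, List.all_eq_true, decide_eq_true_eq] at hv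
      simp only [List.all_eq_true, decide_eq_true_eq, id]
      intro v hv'
      rw [h.pmap_pow hg.1, funext (h.pmap_lin hg.1), hv.2 v hv']
    have h7m : ∀ m : ℕ, ∀ w, h.pmap (g ^ (7 * m)) w = w := fun m => by
      induction m with
      | zero => intro w; rw [mul_zero, pow_zero, h.pmap_one]
      | succ m ih =>
        intro w
        rw [Nat.mul_succ, pow_add, h.pmap_mul (pow_mem hg.1 _) (pow_mem hg.1 _), h7, ih]
    have h8 := hmul j.val
    rw [← Nat.div_add_mod (k.val * j.val) 7, hj, pow_add, h.pmap_mul (pow_mem hg.1 _) (pow_mem hg.1 _),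
      h7m, pow_one] at h8
    exact hfpf d' hne h8
  rw [hd0, h.sv_zero, one_mul] at hσy
  obtain ⟨e, he, c, hc, hyec⟩ := h.cent_E_split hyX
  have hsc : h.sig * c = c * h.sig := Subgroup.mem_centralizer_iff.1 hc _ h.sig_mem_W
  have hσe : h.sig * e * h.sig⁻¹ = e := by
    have h1 := hσy
    rw [hyec, show h.sig * (e * c) * h.sig⁻¹ = h.sig * e * h.sig⁻¹ * (h.sig * c * h.sig⁻¹) by group,
      conj_fix hsc, mul_left_inj] at h1
    exact h1
  have heW : e ∈ Subgroup.centralizer (Wsub t : Set G) := by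
    obtain ⟨w, rfl⟩ := h.mem_E.1 he
    rw [h.sig_conj] at hσe
    rcases rho_fix w (h.sv_inj hσe) with rfl | rfl
    · rw [h.sv_zero]; exact one_mem _
    · rw [h.sv_t]; exact h.t_cent_W
  have hyW : y ∈ Subgroup.centralizer (Wsub t : Set G) := hyec ▸ mul_mem heW hc
  refine ⟨(h.sv ε)⁻¹, inv_mem (h.sv_mem ε), y, Subgroup.mem_centralizer_iff.2 ?_, by
    show x = (h.sv ε)⁻¹ * (h.sv ε * x); group⟩
  rintro z ⟨e', he', he1, hz⟩
  obtain ⟨w, rfl⟩ := h.mem_E.1 he'
  obtain ⟨i, hi⟩ := horb w (fun hw => he1 (by rw [hw, h.sv_zero]))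
  rw [← h.pmap_pow hg.1] at hi
  have e2 : g ^ i.val * t * (g ^ i.val)⁻¹ = h.sv w := by
    rw [← hi, h.sv_pmap (pow_mem hg.1 _), h.sv_t]
  have hz' := wset_conj (g ^ i.val)⁻¹ hz
  rw [inv_inv, ← e2, show (g ^ i.val)⁻¹ * (g ^ i.val * t * (g ^ i.val)⁻¹) * g ^ i.val = t by group] at hz'
  have := conj_comm (g := g ^ i.val) (Subgroup.mem_centralizer_iff.1 hyW _ (wset_le hz'))
  rwa [hgpow, show g ^ i.val * ((g ^ i.val)⁻¹ * z * g ^ i.val) * (g ^ i.val)⁻¹ = z by group] at this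

include h in
/-- The centraliser of all the groups attached to `Y` is the one attached to `t`. -/
theorem HE_Y {Y : Subgroup G} (hY : Y ≤ Wsub t) (h8 : Nat.card Y = 8) : HE Y = hsub t := by
  refine le_antisymm (fun c hc => Subgroup.mem_centralizer_iff.2 ?_) (fun c hc => Subgroup.mem_centralizer_iff.2 ?_)
  · rintro x ⟨v, hv, hx⟩
    have hcW : c ∈ Subgroup.centralizer (Wsub t : Set G) := cent_Wsub fun z hz =>
      (Subgroup.mem_centralizer_iff.1 hc z ⟨t, h.Y_t hY h8, h.t_ne, hz⟩).symm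
    obtain ⟨w, hw, hY'⟩ := h.exists_conj_Y hY h8
    obtain ⟨m, hm⟩ := h.exists_emb (wset_le hv)
    obtain ⟨g, hg, hgc⟩ := hv
    have hm2 : m * m = 1 := h.emb_injective (by
      rw [map_mul, map_one, hm, hg, show g * t * g⁻¹ * (g * t * g⁻¹) = g * (t * t) * g⁻¹ by group, h.tt]
      group)
    obtain ⟨k, a, hka⟩ := model_invol hm2
    have ha : a ≠ 0 := by
      rintro rfl
      rw [vM_zero, mul_one, mul_inv_cancel] at hka
      rw [← hka, map_one, hg] at hm
      exact h.t_ne (conj_eq_one_iff.1 hm.symm)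
    let r := h.emb k * w⁻¹
    have hr : r ∈ Wsub t := mul_mem (h.emb_mem k) (inv_mem hw)
    have hve : v = r * (w * h.sv a * w⁻¹) * r⁻¹ := by
      rw [← hm, ← hka, map_mul, map_mul, map_inv]
      show h.emb k * h.sv a * (h.emb k)⁻¹ = _
      simp only [r]
      group
    have heY : w * h.sv a * w⁻¹ ∈ Y := (hY' _).2 (by
      rw [show w⁻¹ * (w * h.sv a * w⁻¹) * w = h.sv a by group]; exact h.sv_mem a)
    have hx' := wset_conj r⁻¹ hx
    rw [inv_inv, hve, show r⁻¹ * (r * (w * h.sv a * w⁻¹) * r⁻¹) * r = w * h.sv a * w⁻¹ by group] at hx'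
    have := conj_comm (g := r) (Subgroup.mem_centralizer_iff.1 hc _
      ⟨_, heY, fun e => h.sv_ne ha (conj_eq_one_iff.1 e), hx'⟩)
    rwa [conj_fix (Subgroup.mem_centralizer_iff.1 hcW r hr),
      show r * (r⁻¹ * x * r) * r⁻¹ = x by group] at this
  · rintro x ⟨e, he, he1, hx⟩
    exact Subgroup.mem_centralizer_iff.1 hc x ⟨e, h.Y_wset hY h8 he he1, hx⟩

include h in
/-- Linked involutions have the same complement. -/
theorem hsub_link {u : G} (hu : u ∈ Wset t) : hsub u = hsub t := by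
  obtain ⟨m, hm⟩ := h.exists_emb (wset_le hu)
  have hu2 := (h.of_wset hu).tt
  obtain ⟨k, a, hka⟩ := model_invol (m := m) (h.emb_injective (by rw [map_mul, map_one, hm, hu2]))
  let Y := h.E.map (MulAut.conj (h.emb k)).toMonoidHom
  have hY : Y ≤ Wsub t := Subgroup.map_le_iff_le_comap.2 fun e he =>
    mul_mem (mul_mem (h.emb_mem k) (h.E_le_W he)) (inv_mem (h.emb_mem k))
  have h8 : Nat.card Y = 8 := by rw [Subgroup.card_map_of_injective (MulAut.conj (h.emb k)).injective, h.card_E]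
  have huY : u ∈ Y := ⟨h.sv a, h.sv_mem a, by
    show h.emb k * h.emb (vM a) * (h.emb k)⁻¹ = u
    rw [← map_inv, ← map_mul, ← map_mul, hka, hm]⟩
  have hu1 : u ≠ 1 := (h.of_wset hu).t_ne
  rw [← h.HE_Y hY h8, ← (h.of_wset hu).HE_Y (h.Y_le_Wsub hY h8 huY hu1) h8]

include h in
/-- Linked involutions are conjugate under the normal closure. -/
theorem exists_K {u : G} (hu : u ∈ Wset t) : ∃ k ∈ Subgroup.normalClosure ({t} : Set G), k * t * k⁻¹ = u := by
  obtain ⟨m, hm⟩ := h.exists_emb (wset_le hu)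
  have hu2 := (h.of_wset hu).tt
  obtain ⟨k, a, hka⟩ := model_invol (m := m) (h.emb_injective (by rw [map_mul, map_one, hm, hu2]))
  have ha : a ≠ 0 := by
    rintro rfl
    rw [vM_zero, mul_one, mul_inv_cancel] at hka
    rw [← hka, map_one] at hm
    exact (h.of_wset hu).t_ne hm.symm
  obtain ⟨g, hgK, hg, hv, -⟩ := h.exists_g
  obtain ⟨-, horb⟩ := valid_orbit _ _ _ hv
  rw [← funext (h.pmap_lin hg.1)] at horb
  obtain ⟨i, hi⟩ := horb a ha
  rw [← h.pmap_pow hg.1] at hi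
  refine ⟨h.emb k * g ^ i.val, mul_mem (h.W_le_normalClosure (h.emb_mem k)) (pow_mem hgK _), ?_⟩
  rw [show h.emb k * g ^ i.val * t * (h.emb k * g ^ i.val)⁻¹ =
    h.emb k * (g ^ i.val * t * (g ^ i.val)⁻¹) * (h.emb k)⁻¹ by group, ← hm, ← hka, map_mul, map_mul, map_inv]
  show _ = h.emb k * h.sv a * (h.emb k)⁻¹
  rw [← hi, h.sv_pmap (pow_mem hg.1 _), h.sv_t]

include h in
/-- The centraliser of `t` is `W` times its complement. -/
theorem cent_t_eq {x : G} (hx : x * t = t * x) : ∃ w ∈ Wsub t, ∃ c ∈ hsub t, x = w * c := by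
  obtain ⟨w, hw, y, hy, rfl⟩ := h.cent_t_split hx
  obtain ⟨e, he, c, hc, rfl⟩ := h.cent_E_HE hy
  rw [h.HE_Y h.E_le_W h.card_E] at hc
  exact ⟨w * e, mul_mem hw (h.E_le_W he), c, hc, by group⟩

include h in
/-- The complement meets `W` trivially. -/
theorem W_inter_hsub {x : G} (hx : x ∈ Wsub t) (hc : x ∈ hsub t) : x = 1 := by
  rcases h.cent_W_inter hx (hsub_cent hc (wset_self t)) with e | e
  · exact e
  · exfalso
    have hne : h.sv b1 ≠ 1 := h.sv_ne (by decide +kernel)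
    have hws := h.Y_wset h.E_le_W h.card_E (h.sv_mem b1) hne
    have h2 := hsub_cent hc hws
    rw [e] at h2
    rcases (h.of_wset hws).cent_W_inter
      (h.Y_le_Wsub h.E_le_W h.card_E (h.sv_mem b1) hne h.t_mem_E) h2 with e' | e'
    · exact h.t_ne e'
    · exact absurd (h.sv_inj (h.sv_t.trans e')) (by decide +kernel)

theorem S_split {s : G} (hs : s ∈ (h.S : Subgroup G)) : ∃ e ∈ h.E, ∃ c ∈ hsub t, s = e * c := by
  obtain ⟨e, he, c, hc, rfl⟩ := h.cent_E_HE (h.S_cent_E hs)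
  rw [h.HE_Y h.E_le_W h.card_E] at hc
  exact ⟨e, he, c, hc, rfl⟩

end Hyp

end Cfsg.Agent.WeakJ1
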