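import Cfsg.Agent.WeakJ1.Connected
import Cfsg.Agent.JOneRecog.Main
import Cfsg.Agent.C2Sylow.Basic

/-!
The connected case: the normal closure is a perfect central extension of the first Janko group, hence the group
itself.
-/

set_option autoImplicit false
set_option maxRecDepth 100000
set_option synthInstance.maxSize 10000
set_option synthInstance.maxHeartbeats 1000000
set_option linter.all false

namespace Cfsg.Agent.WeakJ1

open JOneRecog

variable {G : Type*} [Group G]

theorem zM_ne_one : zM ≠ (1 : M0) := by decide +kernel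

theorem vec_ne : b1 ≠ 0 ∧ ((1, 1, 0) : V3) ≠ 0 ∧ rho b1 + b1 ≠ 0 ∧ e0 + b1 = ((1, 1, 0) : V3) := by
  decide +kernel

theorem sq_free_janko : ∀ p < 149, 2 < p → ¬ p * p ∣ 21945 := by decide +kernel

theorem prime_sq_not_dvd {p : ℕ} (hp : p.Prime) (h2 : p ≠ 2) : ¬ p ^ 2 ∣ 175560 := by
  intro hd
  have hcop : Nat.Coprime (p ^ 2) 8 :=
    Nat.Coprime.pow 2 3 ((Nat.coprime_primes hp Nat.prime_two).2 h2)
  have h' : p ^ 2 ∣ 21945 := hcop.dvd_of_dvd_mul_left (show p ^ 2 ∣ 8 * 21945 from hd)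
  have hle := Nat.le_of_dvd (by norm_num) h'
  rw [pow_two] at h' hle
  refine sq_free_janko p ?_ (lt_of_le_of_ne hp.two_le (Ne.symm h2)) h'
  by_contra hge
  have := Nat.mul_le_mul (not_lt.1 hge) (not_lt.1 hge)
  omega

namespace Hyp

variable {t : G} (h : Hyp t) [Finite G]

include h in
theorem hsub_normal (hM : ∀ g, g ∈ Mgrp t) : (hsub t).Normal :=
  ⟨fun _ hc g => M_hsub h (hM g) hc⟩

include h in
theorem normalClosure_cent (hM : ∀ g, g ∈ Mgrp t) {c k : G} (hc : c ∈ hsub t)
    (hk : k ∈ Subgroup.normalClosure ({t} : Set G)) : c * k = k * c := by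
  refine hsub_K h hc ?_
  haveI : (Kgrp t).Normal := ⟨fun k hk g => K_conj (hM g) hk⟩
  exact Subgroup.normalClosure_le_normal (Set.singleton_subset_iff.2 (conn_mem_K (conn_refl t))) hk

include h in
/-- The centraliser of `t` in the quotient by the complement. -/
theorem quot_cent [(hsub t).Normal] {x : G}
    (hx : (x : G ⧸ hsub t) * (t : G ⧸ hsub t) = (t : G ⧸ hsub t) * (x : G ⧸ hsub t)) : x * t = t * x := by
  have h1 : t⁻¹ * (x * t * x⁻¹) ∈ hsub t := (QuotientGroup.eq).1 (by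
    rw [QuotientGroup.mk_mul, QuotientGroup.mk_mul, QuotientGroup.mk_inv, hx, mul_inv_cancel_right])
  have h2 : x * t * x⁻¹ * t = t * (x * t * x⁻¹) := by
    have h3 := mem_cent.1 (hsub_le_cent t h1)
    calc x * t * x⁻¹ * t = t * (t⁻¹ * (x * t * x⁻¹) * t) := by group
      _ = t * (t * (t⁻¹ * (x * t * x⁻¹))) := by rw [h3]
      _ = t * (x * t * x⁻¹) := by group
  have h4 := h.W_inter_hsub
    (mul_mem (inv_mem (wset_le (wset_self t))) (wset_le (⟨x, rfl, h2⟩ : x * t * x⁻¹ ∈ Wset t))) h1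
  rw [inv_mul_eq_one, eq_mul_inv_iff_mul_eq] at h4
  exact h4.symm

/-- The model in the quotient. -/
noncomputable def embQ [(hsub t).Normal] : M0 →* G ⧸ hsub t := (QuotientGroup.mk' (hsub t)).comp h.emb

theorem embQ_injective [(hsub t).Normal] : Function.Injective h.embQ := by
  rw [← MonoidHom.ker_eq_bot_iff, eq_bot_iff]
  intro m hm
  have hm' : h.emb m ∈ hsub t := (QuotientGroup.eq_one_iff _).1 hm
  exact Subgroup.mem_bot.2 (h.emb_injective ((h.W_inter_hsub (h.emb_mem m) hm').trans (map_one _).symm))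

theorem cent_embQ [(hsub t).Normal] {y : G ⧸ hsub t}
    (hy : y * (t : G ⧸ hsub t) = (t : G ⧸ hsub t) * y) : ∃ m, h.embQ m = y := by
  obtain ⟨x, rfl⟩ := QuotientGroup.mk_surjective y
  obtain ⟨w, hw, c, hc, rfl⟩ := h.cent_t_eq (h.quot_cent hy)
  obtain ⟨m, rfl⟩ := h.exists_emb hw
  refine ⟨m, ?_⟩
  rw [QuotientGroup.mk_mul, (QuotientGroup.eq_one_iff c).2 hc, mul_one]
  rfl

theorem embQ_zM [(hsub t).Normal] : h.embQ zM = (t : G ⧸ hsub t) := congrArg QuotientGroup.mk h.emb_zM

theorem sylow_image [(hsub t).Normal] {x : G} (hx : x ∈ (h.S : Subgroup G)) :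
    ∃ w, (x : G ⧸ hsub t) = h.embQ (vM w) := by
  obtain ⟨e, he, c, hc, rfl⟩ := h.S_split hx
  obtain ⟨w, rfl⟩ := h.mem_E.1 he
  refine ⟨w, ?_⟩
  rw [QuotientGroup.mk_mul, (QuotientGroup.eq_one_iff c).2 hc, mul_one]
  rfl

include h in
theorem two_group_quot [(hsub t).Normal] {P : Subgroup (G ⧸ hsub t)} (hP : IsPGroup 2 P) :
    ∃ q : G ⧸ hsub t, ∀ y ∈ P, ∃ w, q * h.embQ (vM w) * q⁻¹ = y := by
  haveI := Fact.mk Nat.prime_two
  have hS := Sylow.coe_mapSurjective (QuotientGroup.mk'_surjective (hsub t)) h.S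
  obtain ⟨q, -, hq⟩ := sylow_conj_into (h.S.mapSurjective (QuotientGroup.mk'_surjective (hsub t)))
    (H := ⊤) le_top hP le_top
  refine ⟨q, fun y hy => ?_⟩
  have := hq y hy
  rw [hS] at this
  obtain ⟨x, hx, e⟩ := this
  obtain ⟨w, hw⟩ := h.sylow_image hx
  refine ⟨w, ?_⟩
  rw [← hw, show ((x : G) : G ⧸ hsub t) = q⁻¹ * y * q from e]
  group

include h in
theorem comm_two_group [(hsub t).Normal] {P : Subgroup (G ⧸ hsub t)} (hP : IsPGroup 2 P)
    {a b : G ⧸ hsub t} (ha : a ∈ P) (hb : b ∈ P) : a * b = b * a := by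
  obtain ⟨q, hq⟩ := h.two_group_quot hP
  obtain ⟨v, rfl⟩ := hq a ha
  obtain ⟨w, rfl⟩ := hq b hb
  exact conj_comm (by rw [← map_mul, ← map_mul, ← vM_add, ← vM_add, add_comm])

include h in
/-- A normal subgroup of odd order of the image of the normal closure meets the centraliser trivially. -/
theorem odd_cent [(hsub t).Normal] {L : Subgroup (G ⧸ hsub t)} (hodd : ¬ 2 ∣ Nat.card L)
    (hnorm : ∀ w ∈ Wsub t, ∀ y ∈ L, (w : G ⧸ hsub t) * y * (w : G ⧸ hsub t)⁻¹ ∈ L) {y : G ⧸ hsub t}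
    (hy : y ∈ L) (hc : y * (t : G ⧸ hsub t) = (t : G ⧸ hsub t) * y) : y = 1 := by
  obtain ⟨m, rfl⟩ := h.cent_embQ hc
  have hN : (L.comap h.embQ).Normal := ⟨fun a ha b => by
    show h.embQ (b * a * b⁻¹) ∈ L
    rw [map_mul, map_mul, map_inv]
    exact hnorm _ (h.emb_mem b) _ ha⟩
  have hd : Nat.card (L.comap h.embQ) ∣ Nat.card L := by
    rw [← Subgroup.card_map_of_injective h.embQ_injective]
    exact Subgroup.card_dvd_of_le (Subgroup.map_comap_le _ _)
  have hbot := odd_normal_trivial hN (fun e => hodd (e.trans hd))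
  have hm : m ∈ L.comap h.embQ := hy
  rw [hbot, Subgroup.mem_bot] at hm
  rw [hm, map_one]

end Hyp

/-- The image of the normal closure modulo the complement. -/
def Kbar (t : G) [(hsub t).Normal] : Subgroup (G ⧸ hsub t) :=
  (Subgroup.normalClosure ({t} : Set G)).map (QuotientGroup.mk' (hsub t))

namespace Hyp

variable {t : G} (h : Hyp t) [Finite G]

include h in
theorem embQ_mem [(hsub t).Normal] (m : M0) : h.embQ m ∈ Kbar t :=
  ⟨h.emb m, h.W_le_normalClosure (h.emb_mem m), rfl⟩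

include h in
theorem t_mem_Kbar [(hsub t).Normal] : (t : G ⧸ hsub t) ∈ Kbar t :=
  ⟨t, Subgroup.subset_normalClosure (Set.mem_singleton t), rfl⟩

include h in
/-- The image of the normal closure is simple. -/
theorem kbar_simple (hM : ∀ g, g ∈ Mgrp t) [(hsub t).Normal] : IsSimpleGroup (Kbar t) := by
  haveI := Fact.mk Nat.prime_two
  have htne : (t : G ⧸ hsub t) ≠ 1 := by
    rw [← h.embQ_zM]
    exact fun e => zM_ne_one (h.embQ_injective (e.trans (map_one _).symm))
  haveI : Nontrivial (Kbar t) := ⟨⟨_, h.t_mem_Kbar⟩, 1, fun e => htne (congrArg Subtype.val e)⟩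
  refine ⟨fun N hN => ?_⟩
  let L : Subgroup (G ⧸ hsub t) := N.map (Kbar t).subtype
  have hLN : ∀ k ∈ Kbar t, ∀ y ∈ L, k * y * k⁻¹ ∈ L := by
    rintro k hk y ⟨n, hn, rfl⟩
    exact ⟨⟨k, hk⟩ * n * ⟨k, hk⟩⁻¹, hN.conj_mem n hn _, rfl⟩
  have hnormW : ∀ d, Conn t d → ∀ w ∈ Wsub d, ∀ y ∈ L, (w : G ⧸ hsub t) * y * (w : G ⧸ hsub t)⁻¹ ∈ L := by
    intro d hd w hw y hy
    refine hLN _ ⟨w, ?_, rfl⟩ y hy
    exact K_le_normalClosure t ((Subgroup.closure_le _).2
      (fun x hx => conn_mem_K (conn_trans hd (conn_of_wset hx))) hw)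
  by_cases hev : ∃ d, Conn t d ∧ (d : G ⧸ hsub t) ∈ L
  · refine Or.inr ?_
    obtain ⟨d, hd, hdL⟩ := hev
    have hall : ∀ u, Conn d u → (u : G ⧸ hsub t) ∈ L := by
      intro u hu
      induction hu with
      | refl => exact hdL
      | tail hc hb ih =>
        rename_i a b
        obtain ⟨k, hk, rfl⟩ := (conn_hyp h (conn_trans hd hc)).exists_K hb
        rw [QuotientGroup.mk_mul, QuotientGroup.mk_mul, QuotientGroup.mk_inv]
        refine hLN _ ⟨k, ?_, rfl⟩ _ ih
        have hsub' : ({a} : Set G) ⊆ Subgroup.normalClosure ({t} : Set G) :=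
          Set.singleton_subset_iff.2 (K_le_normalClosure t (conn_mem_K (conn_trans hd hc)))
        exact Subgroup.normalClosure_le_normal hsub' hk
    have hle : Subgroup.normalClosure ({t} : Set G) ≤ L.comap (QuotientGroup.mk' (hsub t)) := by
      refine (Subgroup.closure_le _).2 fun u hu => ?_
      obtain ⟨a, ha, hau⟩ := Group.mem_conjugatesOfSet_iff.1 hu
      rw [Set.mem_singleton_iff] at ha
      subst ha
      obtain ⟨g, rfl⟩ := isConj_iff.1 hau
      exact hall _ (conn_trans (conn_symm hd) (hM g))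
    rw [eq_top_iff]
    rintro ⟨y, x, hx, rfl⟩ -
    obtain ⟨n, hn, e⟩ := hle hx
    have hne : n = ⟨(QuotientGroup.mk' (hsub t)) x, x, hx, rfl⟩ := Subtype.ext e
    rw [← hne]
    exact hn
  · refine Or.inl ?_
    push Not at hev
    have hodd : ¬ 2 ∣ Nat.card L := by
      intro h2
      obtain ⟨⟨y, hy⟩, ho⟩ := exists_prime_orderOf_dvd_card' 2 h2
      rw [← Subgroup.orderOf_coe] at ho
      have hy2 : y * y = 1 := by rw [← pow_two, ← ho, pow_orderOf_eq_one]
      obtain ⟨q, hq⟩ := h.two_group_quot (P := Subgroup.zpowers y)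
        (IsPGroup.of_card (n := 1) (by rw [Nat.card_zpowers, ho, pow_one]))
      obtain ⟨w, hw⟩ := hq y (Subgroup.mem_zpowers y)
      have hw0 : w ≠ 0 := by
        rintro rfl
        rw [vM_zero, map_one, mul_one, mul_inv_cancel] at hw
        have ho' : orderOf y = 2 := ho
        rw [← hw, orderOf_one] at ho'
        omega
      obtain ⟨g, hg⟩ := isConj_iff.1 (h.sv_conj hw0)
      obtain ⟨x, rfl⟩ := QuotientGroup.mk_surjective q
      refine hev _ (conn_trans (hM (x * g)) (by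
        rw [show x * g * t * (x * g)⁻¹ = x * (g * t * g⁻¹) * x⁻¹ by group, hg]; exact conn_refl _)) ?_
      show ((x * h.sv w * x⁻¹ : G) : G ⧸ hsub t) ∈ L
      rw [QuotientGroup.mk_mul, QuotientGroup.mk_mul, QuotientGroup.mk_inv]
      exact hw.symm ▸ hy
    have hinv : ∀ d, Conn t d → ∀ y ∈ L, (d : G ⧸ hsub t) * y * (d : G ⧸ hsub t)⁻¹ = y⁻¹ := by
      intro d hd y hy
      have hH := conn_hyp h hd
      have hsame := conn_hsub h hd
      have hdL : ∀ y ∈ L, (d : G ⧸ hsub t) * y * (d : G ⧸ hsub t)⁻¹ ∈ L :=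
        hnormW d hd d (wset_le (wset_self d))
      let φ : L →* L := (((MulAut.conj (d : G ⧸ hsub t)).toMonoidHom).comp L.subtype).codRestrict L
        fun y => hdL y.1 y.2
      have hφ : ∀ y : L, ((φ y : L) : G ⧸ hsub t) = (d : G ⧸ hsub t) * y * (d : G ⧸ hsub t)⁻¹ := fun _ => rfl
      have hfpf : MonoidHom.FixedPointFree φ := by
        intro y hy'
        have e := congrArg Subtype.val hy'
        rw [hφ] at e
        refine Subtype.ext ?_
        haveI : (hsub d).Normal := hsame ▸ inferInstance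
        have key : ∀ (H : Subgroup G) (hH' : H.Normal), H = hsub d →
            ∀ (L : Subgroup (G ⧸ H)), ¬ 2 ∣ Nat.card L →
            (∀ w ∈ Wsub d, ∀ y ∈ L, (w : G ⧸ H) * y * (w : G ⧸ H)⁻¹ ∈ L) →
            ∀ y ∈ L, (d : G ⧸ H) * y * (d : G ⧸ H)⁻¹ = y → y = 1 := by
          intro H hH' hHe L h1 h2 y hyL e
          subst hHe
          exact hH.odd_cent h1 h2 hyL (mul_inv_eq_iff_eq_mul.1 e).symm
        exact key (hsub t) inferInstance hsame.symm L hodd (hnormW d hd) y y.2 e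
      have hinvol : Function.Involutive φ := fun y => Subtype.ext (by
        rw [hφ, hφ]
        have hd2 : (d : G ⧸ hsub t) * (d : G ⧸ hsub t) = 1 := by
          rw [← QuotientGroup.mk_mul, hH.tt, QuotientGroup.mk_one]
        rw [show (d : G ⧸ hsub t) * ((d : G ⧸ hsub t) * y * (d : G ⧸ hsub t)⁻¹) * (d : G ⧸ hsub t)⁻¹ =
          (d : G ⧸ hsub t) * (d : G ⧸ hsub t) * y * ((d : G ⧸ hsub t) * (d : G ⧸ hsub t))⁻¹ by group, hd2]
        group)
      have := congrFun (MonoidHom.FixedPointFree.coe_eq_inv_of_involutive hfpf hinvol) ⟨y, hy⟩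
      exact congrArg Subtype.val this
    rw [eq_bot_iff]
    intro n hn
    have hy : (n : G ⧸ hsub t) ∈ L := ⟨n, hn, rfl⟩
    have hv : h.sv b1 ∈ Wset t := h.Y_wset h.E_le_W h.card_E (h.sv_mem b1) (h.sv_ne vec_ne.1)
    have he3 : h.sv (1, 1, 0) ∈ Wset t :=
      h.Y_wset h.E_le_W h.card_E (h.sv_mem _) (h.sv_ne vec_ne.2.1)
    have e : h.sv (1, 1, 0) = t * h.sv b1 :=
      calc h.sv (1, 1, 0) = h.sv (e0 + b1) := congrArg h.sv vec_ne.2.2.2.symm
        _ = t * h.sv b1 := by rw [h.sv_add, h.sv_t]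
    have h1 := hinv t (conn_refl t) _ hy
    have h2 := hinv _ (conn_of_wset hv) _ hy
    have h3 := hinv _ (conn_of_wset he3) _ hy
    rw [e, QuotientGroup.mk_mul, show (t : G ⧸ hsub t) * (h.sv b1 : G ⧸ hsub t) * n *
        ((t : G ⧸ hsub t) * (h.sv b1 : G ⧸ hsub t))⁻¹ = (t : G ⧸ hsub t) *
          ((h.sv b1 : G ⧸ hsub t) * n * (h.sv b1 : G ⧸ hsub t)⁻¹) * (t : G ⧸ hsub t)⁻¹ by group, h2,
      show (t : G ⧸ hsub t) * (n : G ⧸ hsub t)⁻¹ * (t : G ⧸ hsub t)⁻¹ =
        ((t : G ⧸ hsub t) * n * (t : G ⧸ hsub t)⁻¹)⁻¹ by group, h1, inv_inv] at h3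
    have hsq : n ^ 2 = 1 := by
      refine Subtype.ext ?_
      rw [Subgroup.coe_pow, pow_two, Subgroup.coe_one]
      exact eq_inv_iff_mul_eq_one.1 h3
    rw [Subgroup.mem_bot]
    by_contra hne
    refine hodd ?_
    have ho : orderOf (⟨(n : G ⧸ hsub t), hy⟩ : L) = 2 := orderOf_eq_prime
      (Subtype.ext (congrArg Subtype.val hsq :)) (fun e => hne (Subtype.ext (congrArg Subtype.val e :)))
    exact (dvd_of_eq ho.symm).trans (orderOf_dvd_natCard _)

include h in
/-- The image of the normal closure is the first Janko group. -/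
theorem kbar_isoJ1 (hM : ∀ g, g ∈ Mgrp t) [(hsub t).Normal] : Spor.IsoJ1 (Kbar t) := by
  haveI := Fact.mk Nat.prime_two
  haveI := h.kbar_simple hM
  let tb : Kbar t := ⟨_, h.t_mem_Kbar⟩
  let f : M0 →* Subgroup.centralizer ({tb} : Set (Kbar t)) :=
    (h.embQ.codRestrict (Kbar t) h.embQ_mem).codRestrict _ fun m =>
      Subgroup.mem_centralizer_singleton_iff.2 (Subtype.ext (by
        show h.embQ m * (t : G ⧸ hsub t) = (t : G ⧸ hsub t) * h.embQ m
        rw [← h.embQ_zM, ← map_mul, ← map_mul, zM_central]))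
  have hf : Function.Bijective f := by
    refine ⟨fun a b e => h.embQ_injective (congrArg Subtype.val (congrArg Subtype.val e)), ?_⟩
    rintro ⟨⟨y, hy⟩, hc⟩
    obtain ⟨m, hm⟩ := h.cent_embQ (congrArg Subtype.val (Subgroup.mem_centralizer_singleton_iff.1 hc) :)
    exact ⟨m, Subtype.ext (Subtype.ext hm)⟩
  have ht2 : orderOf tb = 2 := orderOf_eq_prime (Subtype.ext (by
      rw [Subgroup.coe_pow, pow_two]
      show (t : G ⧸ hsub t) * (t : G ⧸ hsub t) = 1
      rw [← QuotientGroup.mk_mul, h.tt, QuotientGroup.mk_one]))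
    (fun e => by
      have e' : h.embQ zM = h.embQ 1 := by
        rw [h.embQ_zM, map_one]
        exact congrArg Subtype.val e
      exact zM_ne_one (h.embQ_injective e'))
  have htwo : IsTwoCentralInvolution tb := by
    obtain ⟨P, hP⟩ := (IsPGroup.of_card (n := 1) (by rw [Nat.card_zpowers, ht2, pow_one]) :
      IsPGroup 2 (Subgroup.zpowers tb)).exists_le_sylow
    refine ⟨ht2, P, hP (Subgroup.mem_zpowers tb), fun x hx => Subtype.ext ?_⟩
    exact h.comm_two_group (P.isPGroup'.map (Kbar t).subtype) ⟨x, hx, rfl⟩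
      ⟨tb, hP (Subgroup.mem_zpowers tb), rfl⟩
  obtain ⟨D, -⟩ := exists_JD tb htwo (MulEquiv.ofBijective f hf).symm
  exact D.isoJ1

include h in
/-- The connected case. -/
theorem component_top (hM : ∀ g, g ∈ Mgrp t) : Spor.IsoJ1 (Subgroup.normalClosure ({t} : Set G)) := by
  haveI := h.hsub_normal hM
  obtain ⟨e⟩ := h.kbar_isoJ1 hM
  let K := Subgroup.normalClosure ({t} : Set G)
  haveI hKn : K.Normal := Subgroup.normalClosure_normal
  have hcardb : Nat.card (Kbar t) = 175560 := by rw [Nat.card_congr e.toEquiv, JankoOne.card_J1]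
  let f : K →* G ⧸ hsub t := (QuotientGroup.mk' (hsub t)).comp K.subtype
  have hfr : f.range = Kbar t := by
    rw [MonoidHom.range_comp, Subgroup.range_subtype]
    rfl
  have hker : f.ker ≤ Subgroup.center K := fun z hz => Subgroup.mem_center_iff.2 fun k => Subtype.ext
    (h.normalClosure_cent hM ((QuotientGroup.eq_one_iff _).1 hz) k.2).symm
  have hperf : Group.IsPerfect K := by
    rw [Subgroup.isPerfect_iff]
    refine le_antisymm (Subgroup.commutator_le_left _ _) ?_
    have hv := h.sv_mem b1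
    have hne : rho b1 + b1 ≠ 0 := vec_ne.2.2.1
    have hmem : h.sv (rho b1 + b1) ∈ ⁅K, K⁆ := by
      have e1 : h.sv (rho b1 + b1) = h.sig * h.sv b1 * h.sig⁻¹ * (h.sv b1)⁻¹ := by
        rw [h.sig_conj, h.sv_add, inv_eq_of_mul_eq_one_right (h.sv_sq b1)]
      rw [e1]
      exact Subgroup.commutator_mem_commutator (h.W_le_normalClosure h.sig_mem_W)
        (h.W_le_normalClosure (h.E_le_W hv))
    obtain ⟨g, hg⟩ := isConj_iff.1 (h.sv_conj hne).symm
    have ht : t ∈ ⁅K, K⁆ := hg ▸ (Subgroup.commutator_normal K K).conj_mem _ hmem g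
    exact Subgroup.normalClosure_le_normal (Set.singleton_subset_iff.2 ht)
  have hab : ∀ (p : ℕ) [Fact p.Prime] (P : Sylow p K), IsMulCommutative ↥(P : Subgroup K) := by
    intro p hpF P
    have hpp := hpF.out
    by_cases h2 : p = 2
    · subst h2
      obtain ⟨g, -, hg⟩ := sylow_conj_into h.S (H := ⊤) le_top (P.isPGroup'.map K.subtype) le_top
      refine ⟨⟨fun a b => Subtype.ext (Subtype.ext ?_)⟩⟩
      show ((a : K) : G) * ((b : K) : G) = ((b : K) : G) * ((a : K) : G)
      have key : ∀ x : (P : Subgroup K), ∃ ε ∈ h.E, ∃ c ∈ hsub t, c ∈ K ∧ g⁻¹ * ((x : K) : G) * g = ε * c := by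
        intro x
        obtain ⟨ε, hε, c, hc, hxe⟩ := h.S_split (hg _ ⟨x, x.2, rfl⟩)
        refine ⟨ε, hε, c, hc, ?_, hxe⟩
        have hεK : ε ∈ K := h.W_le_normalClosure (h.E_le_W hε)
        have hxK : g⁻¹ * ((x : K) : G) * g ∈ K := by
          have := hKn.conj_mem _ (x : K).2 g⁻¹
          rwa [inv_inv] at this
        rw [show g⁻¹ * ((x : K) : G) * g = ε * c from hxe] at hxK
        exact (K.mul_mem_cancel_left hεK).1 hxK
      obtain ⟨ε, hε, c, hc, hcK, hac⟩ := key a
      obtain ⟨δ, hδ, d, hd, hdK, hbd⟩ := key b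
      have hδK : δ ∈ K := h.W_le_normalClosure (h.E_le_W hδ)
      have hεK : ε ∈ K := h.W_le_normalClosure (h.E_le_W hε)
      have e1 := h.normalClosure_cent hM hc hδK
      have e2 := h.normalClosure_cent hM hd hεK
      have e3 := h.normalClosure_cent hM hc hdK
      have hcomm : ε * c * (δ * d) = δ * d * (ε * c) := by
        calc ε * c * (δ * d) = ε * (c * δ) * d := by group
          _ = ε * δ * (c * d) := by rw [e1]; group
          _ = δ * ε * (d * c) := by rw [h.E_comm hε hδ, e3]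
          _ = δ * (ε * d) * c := by group
          _ = δ * d * (ε * c) := by rw [← e2]; group
      have := conj_comm (g := g) hcomm
      rw [← hac, ← hbd] at this
      simpa [mul_assoc] using this
    · let fP := f.comp (P : Subgroup K).subtype
      haveI : IsCyclic fP.range := by
        have hP1 : IsPGroup p fP.range := P.isPGroup'.of_surjective fP.rangeRestrict fP.rangeRestrict_surjective
        obtain ⟨i, hi⟩ := IsPGroup.iff_card.1 hP1
        have hd : p ^ i ∣ 175560 := by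
          rw [← hi, ← hcardb]
          refine Subgroup.card_dvd_of_le (fun y hy => ?_)
          obtain ⟨x, rfl⟩ := hy
          rw [← hfr]
          exact ⟨x, rfl⟩
        have hi1 : i ≤ 1 := by
          by_contra hge
          exact prime_sq_not_dvd hpp h2 ((pow_dvd_pow p (by omega : 2 ≤ i)).trans hd)
        rcases Nat.le_one_iff_eq_zero_or_eq_one.1 hi1 with rfl | rfl
        · rw [pow_zero] at hi
          haveI := (Nat.card_eq_one_iff_unique.1 hi).1
          exact isCyclic_of_subsingleton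
        · rw [pow_one] at hi
          exact isCyclic_of_prime_card hi
      refine ⟨⟨fun a b => commutative_of_cyclic_center_quotient fP.rangeRestrict (fun x hx => ?_) a b⟩⟩
      rw [MonoidHom.ker_rangeRestrict] at hx
      exact Subgroup.mem_center_iff.2 fun y => Subtype.ext (Subgroup.mem_center_iff.1 (hker hx) y)
  have hinj : Function.Injective f := by
    rw [← MonoidHom.ker_eq_bot_iff, eq_bot_iff]
    intro z hz
    rw [Subgroup.mem_bot]
    by_contra hne
    obtain ⟨p, hp, hpd⟩ := Nat.exists_prime_and_dvd (fun e => hne (orderOf_eq_one_iff.1 e) : orderOf z ≠ 1)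
    haveI := Fact.mk hp
    have hfin : orderOf z ≠ 0 := (orderOf_pos z).ne'
    have ho : orderOf (z ^ (orderOf z / p)) = p := orderOf_pow_orderOf_div hfin hpd
    have hmem : z ^ (orderOf z / p) ∈ Subgroup.center K := hker (pow_mem hz _)
    have := C2Sylow.central_eq_one_of_perfect hperf (default : Sylow p K) (hab p default) hmem
      (by
        have := pow_orderOf_eq_one (z ^ (orderOf z / p))
        rwa [ho] at this)
    rw [this, orderOf_one] at ho
    exact hp.ne_one ho.symm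
  exact ⟨((MonoidHom.ofInjective hinj).trans (MulEquiv.subgroupCongr hfr)).trans e⟩

end Hyp

end Cfsg.Agent.WeakJ1
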